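import Cfsg.Agent.Lib.SolvableSignalizer.Amalgam.Local

/-!
The linear bounds for a subgroup of `T` acting on an elementary abelian group normalised by `K` and
`A`, stated in the ambient group.
-/

set_option autoImplicit false
set_option linter.style.haveILetI false
set_option linter.unusedSectionVars false

namespace Cfsg.Agent.SolvableSignalizer.Amalgam

open Subgroup
open Cfsg.Agent.Components
open scoped commutatorElement Pointwise

universe u

variable {G : Type u} [Group G] [Finite G] {r p : ℕ} [hp : Fact p.Prime] {K T A : Subgroup G}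

namespace Local

open Linear in
/-- Transport to the faithful image. -/
theorem exists_image (l : Local r p K T A) {V : Subgroup G} (hV : Cfsg.IsElementaryAbelian p V)
    (hKV : K ≤ normalizer (V : Set G)) (hAV : A ≤ normalizer (V : Set G)) (hred : Reduced p K V)
    {R : Subgroup G} (hR : Cfsg.IsElementaryAbelian p R) (hRT : R ≤ T) :
    ∃ (H : Type u) (_ : Group H) (_ : Finite H) (Vb F Tb Ab Rb : Subgroup H),
      Frame r p Vb F Tb Ab ∧ Rb ≤ Tb ∧ Cfsg.IsElementaryAbelian p Rb ∧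
      Nat.card Vb = Nat.card V ∧
      Nat.card Rb * Nat.card ↥(R ⊓ centralizer (V : Set G)) = Nat.card R ∧
      Nat.card ↥(Vb ⊓ centralizer (Rb : Set H)) = Nat.card ↥(V ⊓ centralizer (R : Set G)) ∧
      (SqOn V R → SqOn Vb Rb) ∧
      Nat.card (⁅Vb, Rb⁆ : Subgroup H) = Nat.card (⁅V, R⁆ : Subgroup G) ∧
      ∀ m ∈ F, ∃ k ∈ K, Nat.card ↥(⁅V, R⁆ ⊓ centralizer ((MulAut.conj k • R : Subgroup G) : Set G)) ≤
        Nat.card ↥(⁅Vb, Rb⁆ ⊓ centralizer ((MulAut.conj m • Rb : Subgroup H) : Set H)) := by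
  set N := normalizer (V : Set G) with hN
  have hVN : V ≤ N := le_normalizer
  have hRK : R ≤ K := hRT.trans l.TK
  have hRN : R ≤ N := hRK.trans hKV
  haveI hVn : (V.subgroupOf N).Normal := normal_in_normalizer
  set V' := V.subgroupOf N with hV'def
  set R' := R.subgroupOf N with hR'def
  have l' := l.restrict hKV hAV
  have hV' : Cfsg.IsElementaryAbelian p V' :=
    PLocal.ThompsonSubgroup.IsElementaryAbelian.comap hV N.subtype_injective
  have hred' : Reduced p (K.subgroupOf N) V' := by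
    intro M hMK hKM hpow
    have hle : M.map N.subtype ≤ centralizer (V : Set G) := by
      refine hred _ ?_ ?_ ?_
      · rintro _ ⟨y, hy, rfl⟩; exact hMK hy
      · intro k hk
        refine mem_normalizer_iff.mpr fun y => ⟨?_, ?_⟩
        · rintro ⟨z, hz, rfl⟩
          exact ⟨⟨k, hKV hk⟩ * z * ⟨k, hKV hk⟩⁻¹,
            Linear.conj_mem_of_normalizer (hKM (mem_subgroupOf.mpr hk)) hz, rfl⟩
        · rintro ⟨z, hz, hze⟩
          refine ⟨⟨k, hKV hk⟩⁻¹ * z * ⟨k, hKV hk⟩,
            Linear.conj_mem_of_normalizer' (hKM (mem_subgroupOf.mpr hk)) hz, ?_⟩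
          show k⁻¹ * (z : G) * k = y
          rw [show (z : G) = k * y * k⁻¹ from hze]; group
      · rintro _ ⟨y, hy, rfl⟩
        obtain ⟨j, hj⟩ := hpow y hy
        exact ⟨j, mem_centralizer_iff.mpr fun v hv =>
          congrArg Subtype.val (mem_centralizer_iff.mp hj ⟨v, hVN hv⟩ hv)⟩
    intro y hy
    exact mem_centralizer_iff.mpr fun v hv =>
      Subtype.ext (mem_centralizer_iff.mp (hle ⟨y, hy, rfl⟩) v hv)
  obtain ⟨F, hFK, fr⟩ := l'.exists_frame hV' hred'
  set φ := PLocal.Offender.Sec.img V' with hφ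
  let e : V' →* G := N.subtype.comp V'.subtype
  have he : Function.Injective e := N.subtype_injective.comp V'.subtype_injective
  have hcom : ∀ (g : N) (v : V'),
      ⁅φ g, (SemidirectProduct.inl v : PLocal.Offender.Sec.Amb V')⁆ =
      SemidirectProduct.inl (⟨⁅g, (v : N)⁆, by
        rw [commutatorElement_def]
        exact V'.mul_mem (hVn.conj_mem _ v.2 g) (V'.inv_mem v.2)⟩ : V') := by
    intro g v
    rw [commutatorElement_def, PLocal.Offender.Sec.conj_inl, ← map_inv SemidirectProduct.inl,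
      ← map_mul]
    congr 1
  set Vb := PLocal.Offender.Sec.base V' with hVb
  set Rb := R'.map φ with hRb
  -- `⁅Vb, Rb⁆` corresponds to `⁅V, R⁆`
  set X := (⁅Vb, Rb⁆ : Subgroup (PLocal.Offender.Sec.Amb V')).comap
    (SemidirectProduct.inl : V' →* PLocal.Offender.Sec.Amb V') with hX
  have hXb : ⁅Vb, Rb⁆ ≤ Vb := Coprime.commutator_le_of_le_normalizer
    ((map_le_range φ R').trans (PLocal.Offender.Sec.range_le_normalizer V'))
  have hXmap : X.map e = ⁅V, R⁆ := by
    refine le_antisymm ?_ ?_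
    · have hle : ⁅Vb, Rb⁆ ≤ ((⁅V, R⁆).comap e).map SemidirectProduct.inl := by
        rw [commutator_comm Vb, commutator_le]
        rintro _ ⟨g, hg, rfl⟩ _ ⟨v, rfl⟩
        rw [hcom]
        refine ⟨_, ?_, rfl⟩
        show ⁅(g : G), ((v : N) : G)⁆ ∈ ⁅V, R⁆
        rw [commutator_comm]
        exact commutator_mem_commutator hg v.2
      rintro _ ⟨v, hv, rfl⟩
      obtain ⟨w, hw, hwv⟩ := hle hv
      rw [← SemidirectProduct.inl_injective hwv]
      exact hw
    · rw [commutator_comm, commutator_le]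
      intro g hg v hv
      have hvV' : (⟨v, hVN hv⟩ : N) ∈ V' := hv
      refine ⟨⟨⁅(⟨g, hRN hg⟩ : N), ⟨v, hVN hv⟩⁆, ?_⟩, ?_, rfl⟩
      · rw [commutatorElement_def]
        exact V'.mul_mem (hVn.conj_mem _ hvV' _) (V'.inv_mem hvV')
      · show SemidirectProduct.inl _ ∈ ⁅Vb, Rb⁆
        rw [← hcom ⟨g, hRN hg⟩ ⟨_, hvV'⟩, commutator_comm]
        exact commutator_mem_commutator ⟨_, mem_subgroupOf.mpr hg, rfl⟩ ⟨_, rfl⟩
  refine ⟨PLocal.Offender.Sec.Amb V', inferInstance, inferInstance, Vb, F, _, _, Rb, fr,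
    map_mono (fun _ hx => hRT hx), PLocal.ThompsonSubgroup.IsElementaryAbelian.map
      (PLocal.ThompsonSubgroup.IsElementaryAbelian.comap hR N.subtype_injective) φ, ?_, ?_, ?_, ?_,
    ?_, ?_⟩
  · rw [hVb, PLocal.Offender.Sec.card_base, Nat.card_congr (subgroupOfEquivOfLe hVN).toEquiv]
  · have h := PLocal.Cores.card_eq_card_inf_ker_mul_card_map R' φ
    rw [Nat.card_congr (subgroupOfEquivOfLe hRN).toEquiv] at h
    rw [h, mul_comm]
    congr 1
    rw [← card_map_of_injective (K := R' ⊓ φ.ker) N.subtype_injective]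
    refine congrArg (fun S : Subgroup G => Nat.card S) (le_antisymm ?_ ?_)
    · intro x hx
      refine ⟨⟨x, hRN hx.1⟩, ⟨hx.1, (PLocal.Offender.Sec.ker_img V').ge
        (mem_centralizer_iff.mpr fun v hv => Subtype.ext (mem_centralizer_iff.mp hx.2 v hv))⟩, rfl⟩
    · rintro _ ⟨y, hy, rfl⟩
      refine ⟨hy.1, mem_centralizer_iff.mpr fun v hv => ?_⟩
      exact congrArg Subtype.val (mem_centralizer_iff.mp
        ((PLocal.Offender.Sec.ker_img V').le hy.2) ⟨v, hVN hv⟩ hv)
  · rw [hVb, hRb, PLocal.Offender.Sec.card_fixed, ← card_map_of_injective N.subtype_injective]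
    refine congrArg (fun S : Subgroup G => Nat.card S) (le_antisymm ?_ ?_)
    · rintro _ ⟨v, hv, rfl⟩
      exact ⟨hv.1, mem_centralizer_iff.mpr fun g hg =>
        congrArg Subtype.val (mem_centralizer_iff.mp hv.2 ⟨g, hRN hg⟩ hg)⟩
    · rintro v ⟨hv, hvc⟩
      exact ⟨⟨v, hVN hv⟩, ⟨hv, mem_centralizer_iff.mpr fun g hg =>
        Subtype.ext (mem_centralizer_iff.mp hvc g hg)⟩, rfl⟩
  · rintro hsq _ ⟨g, hg, rfl⟩ _ ⟨g', hg', rfl⟩ _ ⟨v, rfl⟩
    rw [hcom]
    exact (PLocal.Offender.Sec.commute_inl_iff V' g _).mpr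
      (Subtype.ext (hsq g hg g' hg' ((v : N) : G) v.2).eq)
  · rw [← hXmap, card_map_of_injective he, hX,
      ← card_map_of_injective (K := (⁅Vb, Rb⁆).comap (SemidirectProduct.inl : V' →* PLocal.Offender.Sec.Amb V'))
        (f := (SemidirectProduct.inl : V' →* PLocal.Offender.Sec.Amb V'))
        SemidirectProduct.inl_injective, map_comap_eq_self (hXb.trans le_rfl)]
  · intro m hm
    obtain ⟨k, hk, rfl⟩ := hFK hm
    refine ⟨(k : G), hk, ?_⟩
    set Y := (⁅Vb, Rb⁆ ⊓ centralizer ((MulAut.conj (φ k) • Rb :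
      Subgroup (PLocal.Offender.Sec.Amb V')) : Set _)).comap
      (SemidirectProduct.inl : V' →* PLocal.Offender.Sec.Amb V') with hY
    refine le_trans (card_le_of_le (show _ ≤ Y.map e from ?_)) ?_
    · rintro v ⟨hv, hvc⟩
      obtain ⟨w, hw, rfl⟩ := hXmap.ge hv
      refine ⟨w, ⟨hw, mem_centralizer_iff.mpr ?_⟩, rfl⟩
      rintro _ ⟨_, ⟨g, hg, rfl⟩, rfl⟩
      show φ k * φ g * (φ k)⁻¹ * SemidirectProduct.inl w = SemidirectProduct.inl w * (φ k * φ g * (φ k)⁻¹)
      rw [← map_inv, ← map_mul, ← map_mul]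
      exact (PLocal.Offender.Sec.commute_inl_iff V' _ _).mpr
        (Subtype.ext (mem_centralizer_iff.mp hvc _ ⟨(g : G), hg, rfl⟩))
    · rw [card_map_of_injective he, hY, ← card_map_of_injective
        (f := (SemidirectProduct.inl : V' →* PLocal.Offender.Sec.Amb V'))
        SemidirectProduct.inl_injective]
      exact card_le_of_le (map_comap_le _ _)

variable (l : Local r p K T A) {V : Subgroup G} (hV : Cfsg.IsElementaryAbelian p V)
  (hKV : K ≤ normalizer (V : Set G)) (hAV : A ≤ normalizer (V : Set G)) (hred : Reduced p K V)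
  {R : Subgroup G} (hR : Cfsg.IsElementaryAbelian p R) (hRT : R ≤ T)
include l hV hKV hAV hred hR hRT

/-- The quadratic bound. -/
theorem quad (hsq : Linear.SqOn V R) :
    Nat.card R ^ 2 * Nat.card ↥(V ⊓ centralizer (R : Set G)) ≤
        Nat.card V * Nat.card ↥(R ⊓ centralizer (V : Set G)) ^ 2 ∧
      (¬ R ≤ centralizer (V : Set G) →
        Nat.card R ^ 2 * Nat.card ↥(V ⊓ centralizer (R : Set G)) <
          Nat.card V * Nat.card ↥(R ⊓ centralizer (V : Set G)) ^ 2) := by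
  obtain ⟨H, _, _, Vb, F, Tb, Ab, Rb, fr, hRb, hRe, hVc, hRc, hfix, hsq', -, -⟩ :=
    l.exists_image hV hKV hAV hred hR hRT
  have key : Rb ≠ ⊥ → Nat.card R ^ 2 * Nat.card ↥(V ⊓ centralizer (R : Set G)) <
      Nat.card V * Nat.card ↥(R ⊓ centralizer (V : Set G)) ^ 2 := fun hne => by
    have h := fr.quad_bound hRe hRb hne (hsq' hsq)
    rw [hVc, hfix] at h
    rw [← hRc, mul_pow, mul_right_comm]
    exact Nat.mul_lt_mul_of_pos_right h (pow_pos Nat.card_pos 2)
  by_cases hne : Rb = ⊥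
  · have hle : R ≤ centralizer (V : Set G) := by
      rw [hne, card_bot, one_mul] at hRc
      exact (eq_of_le_of_card_ge inf_le_left hRc.ge).ge.trans inf_le_right
    refine ⟨?_, fun h => absurd hle h⟩
    rw [inf_eq_left.mpr hle, mul_comm]
    exact Nat.mul_le_mul_right _ (card_le_of_le inf_le_left)
  · exact ⟨(key hne).le, fun _ => key hne⟩

/-- The bound without quadraticity. -/
theorem offender :
    Nat.card R ^ 3 * Nat.card ↥(V ⊓ centralizer (R : Set G)) ^ 2 ≤
        Nat.card V ^ 2 * Nat.card ↥(R ⊓ centralizer (V : Set G)) ^ 3 ∧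
      (¬ R ≤ centralizer (V : Set G) →
        Nat.card R ^ 3 * Nat.card ↥(V ⊓ centralizer (R : Set G)) ^ 2 <
          Nat.card V ^ 2 * Nat.card ↥(R ⊓ centralizer (V : Set G)) ^ 3) := by
  obtain ⟨H, _, _, Vb, F, Tb, Ab, Rb, fr, hRb, hRe, hVc, hRc, hfix, -, -, -⟩ :=
    l.exists_image hV hKV hAV hred hR hRT
  have key : Rb ≠ ⊥ → Nat.card R ^ 3 * Nat.card ↥(V ⊓ centralizer (R : Set G)) ^ 2 <
      Nat.card V ^ 2 * Nat.card ↥(R ⊓ centralizer (V : Set G)) ^ 3 := fun hne => by
    have h := fr.offender_bound hRe hRb hne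
    rw [hVc, hfix] at h
    rw [← hRc, mul_pow, mul_right_comm]
    exact Nat.mul_lt_mul_of_pos_right h (pow_pos Nat.card_pos 3)
  by_cases hne : Rb = ⊥
  · have hle : R ≤ centralizer (V : Set G) := by
      rw [hne, card_bot, one_mul] at hRc
      exact (eq_of_le_of_card_ge inf_le_left hRc.ge).ge.trans inf_le_right
    refine ⟨?_, fun h => absurd hle h⟩
    rw [inf_eq_left.mpr hle, mul_comm]
    exact Nat.mul_le_mul_right _ (Nat.pow_le_pow_left (card_le_of_le inf_le_left) 2)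
  · exact ⟨(key hne).le, fun _ => key hne⟩

/-- Some conjugate of `R` moves much of `⁅V, R⁆`. -/
theorem quad_conj (hsq : Linear.SqOn V R) :
    ∃ k ∈ K, Nat.card R ^ 2 *
      Nat.card ↥(⁅V, R⁆ ⊓ centralizer ((MulAut.conj k • R : Subgroup G) : Set G)) ≤
        Nat.card (⁅V, R⁆ : Subgroup G) * Nat.card ↥(R ⊓ centralizer (V : Set G)) ^ 2 := by
  obtain ⟨H, _, _, Vb, F, Tb, Ab, Rb, fr, hRb, hRe, -, hRc, -, hsq', hcomm, hconj⟩ :=
    l.exists_image hV hKV hAV hred hR hRT
  obtain ⟨m, hm, hb⟩ := fr.quad_conj hRe hRb (hsq' hsq)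
  obtain ⟨k, hk, hle⟩ := hconj m hm
  refine ⟨k, hk, ?_⟩
  rw [hcomm] at hb
  rw [← hRc, mul_pow, mul_right_comm]
  exact Nat.mul_le_mul_right _ ((Nat.mul_le_mul_left _ hle).trans hb)

end Local

end Cfsg.Agent.SolvableSignalizer.Amalgam
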