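import Cfsg.Agent.Lib.SolvableSignalizer.Amalgam.Local

/-!
A bound holding on each member of a family of subgroups of an abelian group, for all subgroups of
`Q`, holds on the subgroup they generate.
-/

set_option autoImplicit false
set_option linter.style.haveILetI false
set_option linter.unusedSectionVars false

namespace Cfsg.Agent.SolvableSignalizer.Amalgam

open Subgroup
open Cfsg.Agent.Components
open scoped commutatorElement Pointwise

variable {G : Type*} [Group G] [Finite G]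

lemma card_sup_mul_card_inf' {X Y : Subgroup G} (h : Y ≤ normalizer (X : Set G)) :
    Nat.card ↥(X ⊔ Y) * Nat.card ↥(X ⊓ Y) = Nat.card X * Nat.card Y := by
  set H := X ⊔ Y
  haveI : (X.subgroupOf H).Normal :=
    normal_subgroupOf_of_le_normalizer (sup_le le_normalizer h)
  have htop : Y.subgroupOf H ⊔ X.subgroupOf H = ⊤ := by
    rw [← subgroupOf_sup le_sup_right le_sup_left, sup_comm Y X, subgroupOf_self]
  have h1 : X.relIndex H = X.relIndex Y := by
    rw [← relIndex_subgroupOf (H := X) (le_refl H), subgroupOf_self, ← htop,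
      relIndex_sup_right, relIndex_subgroupOf (le_sup_right : Y ≤ H)]
  have h2 : Nat.card X * X.relIndex H = Nat.card H := by
    rw [← relIndex_bot_left, ← relIndex_bot_left, relIndex_mul_relIndex ⊥ _ _ bot_le le_sup_left]
  have h3 : Nat.card ↥(X ⊓ Y) * X.relIndex Y = Nat.card Y := by
    rw [← inf_relIndex_right X Y, ← relIndex_bot_left, ← relIndex_bot_left,
      relIndex_mul_relIndex ⊥ _ _ bot_le inf_le_right]
  rw [← h2, ← h3, h1]
  ring

/-- One step. -/
lemma chain_step {p : ℕ} {U R V Q : Subgroup G} (hU : Cfsg.IsElementaryAbelian p U)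
    (hRU : R ≤ U) (hVU : V ≤ U) (hQR : Q ≤ normalizer (R : Set G)) (hQV : Q ≤ normalizer (V : Set G)) :
    Nat.card ↥((R ⊔ V) ⊓ centralizer (Q : Set G)) * Nat.card R * Nat.card V ≤
      Nat.card ↥(R ⊔ V) * Nat.card ↥(R ⊓ centralizer (Q : Set G)) *
        Nat.card ↥(V ⊓ centralizer ((Q ⊓ centralizer (R : Set G) : Subgroup G) : Set G)) := by
  have hn : ∀ X Y : Subgroup G, X ≤ U → Y ≤ U → Y ≤ normalizer (X : Set G) := fun X Y hX hY =>
    hY.trans (Linear.abelian_le_normalizer hU hX)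
  set C' := (R ⊔ V) ⊓ centralizer (Q : Set G) with hC'
  set CV := V ⊓ centralizer ((Q ⊓ centralizer (R : Set G) : Subgroup G) : Set G) with hCV
  have hC'U : C' ≤ U := inf_le_left.trans (sup_le hRU hVU)
  have hle : R ⊔ C' ≤ R ⊔ CV := by
    refine sup_le le_sup_left ?_
    rintro c ⟨hc, hcQ⟩
    obtain ⟨r, hr, v, hv, rfl⟩ := (Coprime.mem_sup_of_le_normalizer (hn R V hRU hVU)).mp hc
    refine mul_mem_sup hr ⟨hv, mem_centralizer_iff.mpr fun q hq => ?_⟩
    have h1 : Commute q (r * v) := mem_centralizer_iff.mp hcQ q hq.1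
    have h2 : Commute q r := (mem_centralizer_iff.mp hq.2 r hr).symm
    exact (show Commute q v by simpa using h2.inv_right.mul_right h1).eq
  have hCR : C' ⊓ R = R ⊓ centralizer (Q : Set G) := by
    apply le_antisymm
    · exact fun x hx => ⟨hx.2, hx.1.2⟩
    · exact fun x hx => ⟨⟨mem_sup_left hx.1, hx.2⟩, hx.1⟩
  have hRV : R ⊓ CV = R ⊓ V := by
    apply le_antisymm
    · exact inf_le_inf_left _ inf_le_left
    · rintro x ⟨hxR, hxV⟩
      exact ⟨hxR, hxV, mem_centralizer_iff.mpr fun q hq => (mem_centralizer_iff.mp hq.2 x hxR).symm⟩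
  have e1 := card_sup_mul_card_inf' (X := R) (Y := C') (hn R C' hRU hC'U)
  have e2 := card_sup_mul_card_inf' (X := R) (Y := CV) (hn R CV hRU (inf_le_left.trans hVU))
  have e3 := card_sup_mul_card_inf' (X := R) (Y := V) (hn R V hRU hVU)
  rw [inf_comm, hCR] at e1
  rw [hRV] at e2
  have hmono := card_le_of_le hle
  set a := Nat.card ↥(R ⊓ centralizer (Q : Set G))
  calc Nat.card C' * Nat.card R * Nat.card V = Nat.card ↥(R ⊔ C') * a * Nat.card V := by
        rw [e1, mul_comm (Nat.card R)]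
    _ ≤ Nat.card ↥(R ⊔ CV) * a * Nat.card V := Nat.mul_le_mul_right _ (Nat.mul_le_mul_right _ hmono)
    _ = Nat.card ↥(R ⊔ V) * a * Nat.card CV := by
        refine Nat.eq_of_mul_eq_mul_right (Nat.card_pos (α := ↥(R ⊓ V))) ?_
        calc Nat.card ↥(R ⊔ CV) * a * Nat.card V * Nat.card ↥(R ⊓ V)
            = Nat.card ↥(R ⊔ CV) * Nat.card ↥(R ⊓ V) * (a * Nat.card V) := by ring
          _ = Nat.card R * Nat.card V * (a * Nat.card CV) := by rw [e2]; ring
          _ = _ := by rw [← e3]; ring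

/-- The bound on the join. -/
theorem chain_bound {p : ℕ} {U Q : Subgroup G} (hU : Cfsg.IsElementaryAbelian p U) {ι : Type*}
    (V : ι → Subgroup G) (hVU : ∀ i, V i ≤ U) (hQV : ∀ i, Q ≤ normalizer (V i : Set G)) (e f : ℕ)
    (hb : ∀ i, ∀ Q' ≤ Q, Nat.card Q' ^ e * Nat.card ↥(V i ⊓ centralizer (Q' : Set G)) ^ f ≤
      Nat.card (V i) ^ f * Nat.card ↥(Q' ⊓ centralizer (V i : Set G)) ^ e) (s : Finset ι) :
    Nat.card Q ^ e * Nat.card ↥((⨆ i ∈ s, V i) ⊓ centralizer (Q : Set G)) ^ f ≤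
        Nat.card ↥(⨆ i ∈ s, V i) ^ f *
          Nat.card ↥(Q ⊓ centralizer ((⨆ i ∈ s, V i : Subgroup G) : Set G)) ^ e ∧
      ((∀ i, ∀ Q' ≤ Q, ¬ Q' ≤ centralizer (V i : Set G) →
          Nat.card Q' ^ e * Nat.card ↥(V i ⊓ centralizer (Q' : Set G)) ^ f <
            Nat.card (V i) ^ f * Nat.card ↥(Q' ⊓ centralizer (V i : Set G)) ^ e) →
        ¬ Q ≤ centralizer ((⨆ i ∈ s, V i : Subgroup G) : Set G) →
        Nat.card Q ^ e * Nat.card ↥((⨆ i ∈ s, V i) ⊓ centralizer (Q : Set G)) ^ f <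
          Nat.card ↥(⨆ i ∈ s, V i) ^ f *
            Nat.card ↥(Q ⊓ centralizer ((⨆ i ∈ s, V i : Subgroup G) : Set G)) ^ e) := by
  classical
  induction s using Finset.induction_on with
  | empty =>
    have h : (Q ⊓ centralizer ((⨆ i ∈ (∅ : Finset ι), V i : Subgroup G) : Set G)) = Q :=
      inf_eq_left.mpr fun q _ => by simp [mem_centralizer_iff]
    refine ⟨?_, fun _ hn => absurd (h.ge.trans inf_le_right) hn⟩
    rw [h, mul_comm]
    exact Nat.mul_le_mul_right _ (Nat.pow_le_pow_left (card_le_of_le inf_le_left) f)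
  | insert i s _ ih =>
    obtain ⟨ihb, ihs⟩ := ih
    set R := ⨆ j ∈ s, V j with hR
    have hRU : R ≤ U := iSup₂_le fun j _ => hVU j
    have hQR : Q ≤ normalizer (R : Set G) := fun q hq => Coprime.conj_smul_eq_self_iff.mp (by
      show Subgroup.map (MulAut.conj q).toMonoidHom R = R
      rw [hR, Subgroup.map_iSup]
      refine iSup_congr fun j => ?_
      rw [Subgroup.map_iSup]
      exact iSup_congr fun _ => Coprime.conj_smul_eq_self_iff.mpr (hQV j hq))
    have hins : (⨆ j ∈ insert i s, V j) = R ⊔ V i := by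
      rw [Finset.iSup_insert, sup_comm]
    rw [hins]
    set Q₁ := Q ⊓ centralizer (R : Set G) with hQ₁
    have hQ₂ : Q ⊓ centralizer ((R ⊔ V i : Subgroup G) : Set G) =
        Q₁ ⊓ centralizer (V i : Set G) := by
      apply le_antisymm
      · exact le_inf (inf_le_inf_left _ (centralizer_le (SetLike.coe_subset_coe.mpr le_sup_left)))
          (inf_le_right.trans (centralizer_le (SetLike.coe_subset_coe.mpr le_sup_right)))
      · rintro x ⟨⟨hxQ, hxR⟩, hxV⟩
        refine ⟨hxQ, ?_⟩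
        have hle : R ⊔ V i ≤ centralizer {x} := sup_le
          (fun y hy => mem_centralizer_singleton_iff.mpr (mem_centralizer_iff.mp hxR y hy))
          (fun y hy => mem_centralizer_singleton_iff.mpr (mem_centralizer_iff.mp hxV y hy))
        exact mem_centralizer_iff.mpr fun y hy => mem_centralizer_singleton_iff.mp (hle hy)
    rw [hQ₂]
    have hvb := hb i Q₁ inf_le_left
    have hst := Nat.pow_le_pow_left (chain_step hU hRU (hVU i) hQR (hQV i)) f
    set x := Nat.card ↥((R ⊔ V i) ⊓ centralizer (Q : Set G))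
    set S := Nat.card ↥(R ⊔ V i)
    set a := Nat.card Q
    set a₁ := Nat.card Q₁
    set a₂ := Nat.card ↥(Q₁ ⊓ centralizer (V i : Set G))
    set cR := Nat.card ↥(R ⊓ centralizer (Q : Set G))
    set cV := Nat.card ↥(V i ⊓ centralizer (Q₁ : Set G))
    set nR := Nat.card R
    set nV := Nat.card (V i)
    rw [mul_pow, mul_pow, mul_pow, mul_pow] at hst
    have hpos : 0 < a₁ ^ e * (nR ^ f * nV ^ f) :=
      Nat.mul_pos (pow_pos Nat.card_pos e) (Nat.mul_pos (pow_pos Nat.card_pos f) (pow_pos Nat.card_pos f))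
    have key : a ^ e * x ^ f * (a₁ ^ e * (nR ^ f * nV ^ f)) ≤
        S ^ f * ((a ^ e * cR ^ f) * (a₁ ^ e * cV ^ f)) := by
      calc a ^ e * x ^ f * (a₁ ^ e * (nR ^ f * nV ^ f)) = a ^ e * a₁ ^ e * (x ^ f * nR ^ f * nV ^ f) := by
            ring
        _ ≤ a ^ e * a₁ ^ e * (S ^ f * cR ^ f * cV ^ f) := Nat.mul_le_mul_left _ hst
        _ = _ := by ring
    have hend : S ^ f * ((nR ^ f * a₁ ^ e) * (nV ^ f * a₂ ^ e)) =
        S ^ f * a₂ ^ e * (a₁ ^ e * (nR ^ f * nV ^ f)) := by ring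
    have hSpos : 0 < S ^ f := pow_pos Nat.card_pos f
    refine ⟨Nat.le_of_mul_le_mul_right
      (key.trans ((Nat.mul_le_mul_left _ (Nat.mul_le_mul ihb hvb)).trans hend.le)) hpos,
      fun hs hn => Nat.lt_of_mul_lt_mul_right (a := a₁ ^ e * (nR ^ f * nV ^ f)) ?_⟩
    refine key.trans_lt ((Nat.mul_lt_mul_of_pos_left ?_ hSpos).trans_eq hend)
    by_cases hQR' : Q ≤ centralizer (R : Set G)
    · refine Nat.mul_lt_mul_of_le_of_lt ihb (hs i Q₁ inf_le_left fun h => hn fun q hq => ?_) ?_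
      · have hle : R ⊔ V i ≤ centralizer {q} := sup_le
          (fun y hy => mem_centralizer_singleton_iff.mpr (mem_centralizer_iff.mp (hQR' hq) y hy))
          (fun y hy => mem_centralizer_singleton_iff.mpr
            (mem_centralizer_iff.mp (h ⟨hq, hQR' hq⟩) y hy))
        exact mem_centralizer_iff.mpr fun y hy => mem_centralizer_singleton_iff.mp (hle hy)
      · exact Nat.mul_pos (pow_pos Nat.card_pos f) (pow_pos Nat.card_pos e)
    · exact Nat.mul_lt_mul_of_lt_of_le (ihs hs hQR') hvb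
        (Nat.mul_pos (pow_pos Nat.card_pos f) (pow_pos Nat.card_pos e))

end Cfsg.Agent.SolvableSignalizer.Amalgam
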