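import Cfsg.Agent.Lib.SolvableSignalizer.Amalgam.Side

/-!
Translates at the least bad distance, when that distance is at least two, contradict the bound.
-/

set_option autoImplicit false
set_option linter.style.haveILetI false
set_option linter.unusedSectionVars false

namespace Cfsg.Agent.SolvableSignalizer.Amalgam

open Subgroup
open Cfsg.Agent.Components
open scoped commutatorElement Pointwise

universe u

variable {G : Type u} [Group G] [Finite G]

/-- Some translate at distance `k` leaves the core. -/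
def Bad (p : ℕ) (𝒢 : Set (Subgroup G)) (Z : Subgroup G) (k : ℕ) : Prop :=
  ∃ K g L, Reach 𝒢 k K g L ∧ ¬ MulAut.conj g • vgrp Z L ≤ Cfsg.pCoreOf p K

lemma conj_inf_centralizer (g : G) (X Y : Subgroup G) :
    MulAut.conj g • (X ⊓ centralizer (Y : Set G)) =
      MulAut.conj g • X ⊓ centralizer ((MulAut.conj g • Y : Subgroup G) : Set G) := by
  ext x
  simp only [mem_inf, Coprime.mem_conj_smul, mem_centralizer_iff, SetLike.mem_coe]
  refine and_congr_right fun _ => ⟨fun h y hy => ?_, fun h y hy => ?_⟩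
  · calc y * x = g * (g⁻¹ * y * g * (g⁻¹ * x * g)) * g⁻¹ := by group
      _ = g * (g⁻¹ * x * g * (g⁻¹ * y * g)) * g⁻¹ := by rw [h _ hy]
      _ = _ := by group
  · calc y * (g⁻¹ * x * g) = g⁻¹ * (g * y * g⁻¹ * x) * g := by group
      _ = g⁻¹ * (x * (g * y * g⁻¹)) * g := by
          rw [h (g * y * g⁻¹) (by simpa [mul_assoc] using hy)]
      _ = _ := by group

lemma card_conj_inf_centralizer (g : G) (X Y : Subgroup G) :
    Nat.card ↥(MulAut.conj g • X ⊓ centralizer ((MulAut.conj g • Y : Subgroup G) : Set G)) =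
      Nat.card ↥(X ⊓ centralizer (Y : Set G)) := by
  rw [← conj_inf_centralizer, Coprime.card_conj_smul]

lemma conj_ugrp (𝒢 : Set (Subgroup G)) (Z : Subgroup G) {M : Subgroup G} {m : G} (hm : m ∈ M) :
    MulAut.conj m • ugrp 𝒢 Z M = ugrp 𝒢 Z M :=
  Coprime.conj_smul_eq_self_iff.mpr (Hyp.le_normalizer_ugrp hm)

lemma conj_ugrp_le {𝒢 : Set (Subgroup G)} {Z L X : Subgroup G} {g : G}
    (h : ∀ l ∈ L, ∀ M ∈ 𝒢, MulAut.conj (g * l) • vgrp Z M ≤ X) :
    MulAut.conj g • ugrp 𝒢 Z L ≤ X := by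
  show Subgroup.map (MulAut.conj g).toMonoidHom _ ≤ _
  simp only [ugrp, Subgroup.map_iSup]
  refine iSup₂_le fun l M => ?_
  show MulAut.conj g • MulAut.conj (l : G) • vgrp Z (M : Subgroup G) ≤ X
  rw [← Coprime.conj_smul_mul]
  exact h _ l.2 _ M.2

namespace Hyp

variable {r p : ℕ} [hp : Fact p.Prime] {𝒢 : Set (Subgroup G)} {T Z : Subgroup G} {A : Subgroup G → Subgroup G}
  (H : Hyp r p 𝒢 T Z A)
include H

lemma not_bad_zero : ¬ Bad p 𝒢 Z 0 := by
  rintro ⟨K, g, L, hr, hn⟩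
  cases hr with
  | base hK hg => exact hn ((vgrp_conj_self hg).trans_le (H.vgrp_le_core hK))

/-- The least bad distance is not two or more. -/
theorem not_far {n : ℕ} (hgood : ∀ j, j ≤ n + 1 → ¬ Bad p 𝒢 Z j) : ¬ Bad p 𝒢 Z (n + 2) := by
  rintro ⟨K₀, g, L, hr, hn⟩
  have good : ∀ {j : ℕ} {K L : Subgroup G} {g : G}, j ≤ n + 1 → Reach 𝒢 j K g L →
      MulAut.conj g • vgrp Z L ≤ Cfsg.pCoreOf p K := fun hj hr' => by
    by_contra h
    exact hgood _ hj ⟨_, _, _, hr', h⟩
  have h₀ := hr.left_mem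
  obtain ⟨k₀, K₁, g', hk₀, h₁, hr₁, rfl⟩ := hr.head
  have hn' : ¬ MulAut.conj g' • vgrp Z L ≤ Cfsg.pCoreOf p K₀ := fun h => hn (by
    rw [Coprime.conj_smul_mul, ← H.core_conj h₀ hk₀]
    exact pointwise_smul_le_pointwise_smul_iff.mpr h)
  obtain ⟨M, h, l, m, hrM, hl, hm, rfl⟩ := hr₁.last
  rw [Coprime.conj_smul_mul, vgrp_conj_self hm] at hn'
  have hLM := hrM.right_mem
  set U := MulAut.conj h • ugrp 𝒢 Z M with hU
  set U' := ugrp 𝒢 Z K₀ with hU'
  have hU₁ : U ≤ Cfsg.pCoreOf p K₁ := conj_ugrp_le fun x hx X hX => by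
    have h2 := Reach.step hrM hx hX (one_mem X)
    rw [mul_one] at h2
    exact good le_rfl h2
  have hU₀ : ¬ U ≤ Cfsg.pCoreOf p K₀ := fun hle => hn' (by
    refine le_trans ?_ hle
    rw [hU, Coprime.conj_smul_mul]
    exact pointwise_smul_le_pointwise_smul_iff.mpr
      (le_iSup_of_le (⟨l, hl⟩ : M) (le_iSup_of_le (⟨L, hr.right_mem⟩ : 𝒢) le_rfl)))
  -- translates around one vertex commute
  have helem : ∀ K ∈ 𝒢, Cfsg.IsElementaryAbelian p (ugrp 𝒢 Z K) := fun K hK => by
    have e : ugrp 𝒢 Z K = ⨆ i : K × 𝒢, MulAut.conj (i.1 : G) • vgrp Z (i.2 : Subgroup G) := by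
      simp [ugrp, iSup_prod]
    rw [e]
    refine elem_iSup (fun i => PLocal.ThompsonSubgroup.IsElementaryAbelian.map
      (H.vgrp_elem i.2.2) _) fun i j => ?_
    have hin : ∀ (k : K) (X : 𝒢), MulAut.conj (k : G) • vgrp Z (X : Subgroup G) ≤
        Cfsg.pCoreOf p K := fun k X => by
      have h2 := good (by omega) (Reach.adj hK X.2 k.2 (one_mem (X : Subgroup G)))
      rwa [mul_one] at h2
    have hc := H.commute_of_mutual j.2.2 i.2.2 (g := (j.1 : G)⁻¹ * i.1)
      (((hin ⟨_, K.mul_mem (K.inv_mem j.1.2) i.1.2⟩ i.2)).trans (H.coreT K hK))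
      (by
        have h2 := hin 1 j.2
        rw [OneMemClass.coe_one, Coprime.conj_smul_one] at h2
        exact h2.trans (H.core_le_conj hK (K.mul_mem (K.inv_mem j.1.2) i.1.2)))
    have h3 := pointwise_smul_le_pointwise_smul_iff (a := MulAut.conj (j.1 : G)).mpr hc
    rw [← Coprime.conj_smul_mul, mul_inv_cancel_left] at h3
    refine h3.trans (le_of_eq ?_)
    have h4 := conj_inf_centralizer (j.1 : G) ⊤ (vgrp Z (j.2 : Subgroup G))
    rw [top_inf_eq, show MulAut.conj (j.1 : G) • (⊤ : Subgroup G) = ⊤ from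
      eq_top_iff.mpr fun x _ => Coprime.mem_conj_smul.mpr (mem_top _), top_inf_eq] at h4
    exact h4
  -- the other end
  obtain ⟨h', N, M', hM', hN, hUe, hU'N⟩ : ∃ (h' : G) (N M' : Subgroup G), M' ∈ 𝒢 ∧ N ∈ 𝒢 ∧
      U = MulAut.conj h' • ugrp 𝒢 Z M' ∧ U' ≤ MulAut.conj h' • Cfsg.pCoreOf p N := by
    rcases n with _ | d
    · cases hrM with
      | base _ hh =>
        refine ⟨1, K₀, _, hLM, h₀, ?_, ?_⟩
        · rw [hU, conj_ugrp _ _ hh, Coprime.conj_smul_one]
        · rw [Coprime.conj_smul_one, hU', ← Coprime.conj_smul_one (ugrp 𝒢 Z K₀)]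
          exact conj_ugrp_le fun x hx X hX => by
            have h2 := good le_rfl (Reach.adj h₀ hX hx (one_mem X))
            simpa using h2
    · obtain ⟨M₂, h₂, l₂, m₂, hrM₂, hl₂, hm₂, rfl⟩ := hrM.last
      refine ⟨h₂ * l₂, M₂, M, hLM, hrM₂.right_mem, ?_, ?_⟩
      · rw [hU, Coprime.conj_smul_mul, conj_ugrp _ _ hm₂]
      · have hsym := ((hrM₂.right_mul hl₂).symm).trans
          (Reach.adj h₁ h₀ (one_mem K₁) (one_mem K₀))
        rw [mul_one, mul_one] at hsym
        have hle : MulAut.conj (h₂ * l₂)⁻¹ • U' ≤ Cfsg.pCoreOf p M₂ :=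
          conj_ugrp_le fun x hx X hX => by
            have h2 := Reach.step hsym hx hX (one_mem X)
            rw [mul_one] at h2
            exact good le_rfl h2
        have h3 := pointwise_smul_le_pointwise_smul_iff (a := MulAut.conj (h₂ * l₂)).mpr hle
        rwa [← Coprime.conj_smul_mul, mul_inv_cancel, Coprime.conj_smul_one] at h3
  have hUel : Cfsg.IsElementaryAbelian p U := hU ▸
    PLocal.ThompsonSubgroup.IsElementaryAbelian.map (helem M hLM) _
  have hU'el := helem K₀ h₀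
  have hU'U : U' ≤ normalizer (U : Set G) := by
    rw [hUe, ← Coprime.conj_smul_normalizer]
    exact hU'N.trans (pointwise_smul_le_pointwise_smul_iff.mpr
      ((H.coreT N hN).trans ((H.loc M' hM').TK.trans le_normalizer_ugrp)))
  have hUU' : U ≤ normalizer (U' : Set G) :=
    hU₁.trans ((H.coreT K₁ h₁).trans ((H.loc K₀ h₀).TK.trans le_normalizer_ugrp))
  have s1 := (H.side h₀ h₁ hU'el hUel hU₁ (sqOn_of_normal hUel hU'U)).2 hU₀
  have hback : ∀ X : Subgroup G, MulAut.conj h'⁻¹ • MulAut.conj h' • X = X := fun X => by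
    rw [← Coprime.conj_smul_mul, inv_mul_cancel, Coprime.conj_smul_one]
  have hM'U : ugrp 𝒢 Z M' = MulAut.conj h'⁻¹ • U := by rw [hUe, hback]
  have hR'el : Cfsg.IsElementaryAbelian p (MulAut.conj h'⁻¹ • U' : Subgroup G) :=
    PLocal.ThompsonSubgroup.IsElementaryAbelian.map hU'el _
  have s2 := (H.side hM' hN (helem M' hM') hR'el
    (hback (Cfsg.pCoreOf p N) ▸ pointwise_smul_le_pointwise_smul_iff.mpr hU'N)
    (sqOn_of_normal hR'el (by
      rw [hM'U, ← Coprime.conj_smul_normalizer]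
      exact pointwise_smul_le_pointwise_smul_iff.mpr hUU'))).1
  rw [hM'U, card_conj_inf_centralizer, card_conj_inf_centralizer, Coprime.card_conj_smul,
    Coprime.card_conj_smul] at s2
  rw [← hU'] at s1
  linarith

end Hyp

end Cfsg.Agent.SolvableSignalizer.Amalgam
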