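import Cfsg.Agent.Lib.SolvableSignalizer.Amalgam.Sections
import Cfsg.Agent.Lib.SolvableSignalizer.Amalgam.Chain

/-!
A family of groups sharing `T` and a subgroup `Z` of its centre: the coset graph and the first
facts about the translates of the normal closures of `Z`.
-/

set_option autoImplicit false
set_option linter.style.haveILetI false
set_option linter.unusedSectionVars false

namespace Cfsg.Agent.SolvableSignalizer.Amalgam

open Subgroup
open Cfsg.Agent.Components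
open scoped commutatorElement Pointwise

universe u

variable {G : Type u} [Group G]

/-- The normal closure of `Z` in `K`. -/
def vgrp (Z K : Subgroup G) : Subgroup G := ⨆ k : K, MulAut.conj (k : G) • Z

/-- The translates under `L` of all the `vgrp Z K`. -/
def ugrp (𝒢 : Set (Subgroup G)) (Z L : Subgroup G) : Subgroup G :=
  ⨆ l : L, ⨆ K : 𝒢, MulAut.conj (l : G) • vgrp Z (K : Subgroup G)

/-- Paths in the coset graph. -/
inductive Reach (𝒢 : Set (Subgroup G)) : ℕ → Subgroup G → G → Subgroup G → Prop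
  | base {K : Subgroup G} {g : G} : K ∈ 𝒢 → g ∈ K → Reach 𝒢 0 K g K
  | step {k : ℕ} {K L M : Subgroup G} {g l m : G} :
      Reach 𝒢 k K g L → l ∈ L → M ∈ 𝒢 → m ∈ M → Reach 𝒢 (k + 1) K (g * l * m) M

/-- The hypotheses; the coprime group `A K` may depend on the member `K`, and permutes the family. -/
structure Hyp [Finite G] (r p : ℕ) (𝒢 : Set (Subgroup G)) (T Z : Subgroup G)
    (A : Subgroup G → Subgroup G) : Prop where
  loc : ∀ K ∈ 𝒢, Local r p K T (A K)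
  perm : ∀ K ∈ 𝒢, ∀ a ∈ A K, ∀ M ∈ 𝒢, MulAut.conj a • M ∈ 𝒢
  zne : Z ≠ ⊥
  zelem : Cfsg.IsElementaryAbelian p Z
  zT : T ≤ centralizer (Z : Set G)
  AZ : ∀ K ∈ 𝒢, A K ≤ normalizer (Z : Set G)
  coreT : ∀ K ∈ 𝒢, Cfsg.pCoreOf p K ≤ T
  zcore : ∀ K ∈ 𝒢, Z ≤ Cfsg.pCoreOf p K
  cent : ∀ K ∈ 𝒢, K ⊓ centralizer ((Cfsg.pCoreOf p K : Subgroup G) : Set G) ≤ Cfsg.pCoreOf p K
  red : ∀ K ∈ 𝒢, Reduced p K (vgrp Z K)
  capt : ∀ K ∈ 𝒢, ∀ L ∈ 𝒢, L ⊓ centralizer (ugrp 𝒢 Z L : Set G) ≤ K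

section

variable {𝒢 : Set (Subgroup G)} {k : ℕ} {K L M : Subgroup G} {g h : G}

lemma Reach.left_mem (hr : Reach 𝒢 k K g L) : K ∈ 𝒢 := by
  induction hr with
  | base hK _ => exact hK
  | step _ _ _ _ ih => exact ih

lemma Reach.right_mem (hr : Reach 𝒢 k K g L) : L ∈ 𝒢 := by
  cases hr with
  | base hK _ => exact hK
  | step _ _ hM _ => exact hM

lemma Reach.right_mul (hr : Reach 𝒢 k K g L) {l : G} (hl : l ∈ L) : Reach 𝒢 k K (g * l) L := by
  cases hr with
  | base hK hg => exact .base hK (mul_mem hg hl)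
  | step hr' hl' hM hm =>
    rw [mul_assoc _ _ l]
    exact .step hr' hl' hM (mul_mem hm hl)

lemma Reach.mono (hr : Reach 𝒢 k K g L) : Reach 𝒢 (k + 1) K g L := by
  have := Reach.step hr (one_mem L) hr.right_mem (one_mem L)
  rwa [mul_one, mul_one] at this

lemma Reach.trans {j : ℕ} (h₁ : Reach 𝒢 k K g L) (h₂ : Reach 𝒢 j L h M) :
    Reach 𝒢 (k + j) K (g * h) M := by
  induction h₂ with
  | base _ hg' => exact h₁.right_mul hg'
  | step _ hl hM hm ih =>
    rw [← mul_assoc, ← mul_assoc, ← add_assoc]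
    exact .step (ih h₁) hl hM hm

lemma Reach.adj (hK : K ∈ 𝒢) (hL : L ∈ 𝒢) {a b : G} (ha : a ∈ K) (hb : b ∈ L) :
    Reach 𝒢 1 K (a * b) L := by
  have := Reach.step (Reach.base hK (one_mem K)) ha hL hb
  rwa [one_mul] at this

lemma Reach.symm (hr : Reach 𝒢 k K g L) : Reach 𝒢 k L g⁻¹ K := by
  induction hr with
  | base hK hg => exact .base hK (inv_mem hg)
  | @step k K L M g l m hr hl hM hm ih =>
    have := (Reach.adj hM hr.right_mem (inv_mem hm) (inv_mem hl)).trans ih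
    rw [show (g * l * m)⁻¹ = m⁻¹ * l⁻¹ * g⁻¹ by group, add_comm]
    exact this

/-- The first step of a path. -/
lemma Reach.head (hr : Reach 𝒢 (k + 1) K g L) :
    ∃ (k₀ : G) (K₁ : Subgroup G) (g' : G), k₀ ∈ K ∧ K₁ ∈ 𝒢 ∧ Reach 𝒢 k K₁ g' L ∧ g = k₀ * g' := by
  have h := hr.symm
  rw [← inv_inv g]
  generalize g⁻¹ = y at h ⊢
  cases h with
  | @step _ _ L' _ g₁ l m h' hl _ hm =>
    refine ⟨m⁻¹, L', l⁻¹ * g₁⁻¹, inv_mem hm, h'.right_mem, ?_, by group⟩
    have := (Reach.base h'.right_mem (inv_mem hl)).trans h'.symm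
    rwa [zero_add] at this

/-- The last step of a path. -/
lemma Reach.last (hr : Reach 𝒢 (k + 1) K g L) :
    ∃ (M : Subgroup G) (h l m : G), Reach 𝒢 k K h M ∧ l ∈ M ∧ m ∈ L ∧ g = h * l * m := by
  cases hr with
  | @step _ _ L' _ g₁ l m h' hl _ hm => exact ⟨L', g₁, l, m, h', hl, hm, rfl⟩

end

lemma le_vgrp (Z K : Subgroup G) : Z ≤ vgrp Z K :=
  le_iSup_of_le (1 : K) (by simp)

lemma vgrp_conj {Z K : Subgroup G} {h : G} (hZ : h ∈ normalizer (Z : Set G)) :
    MulAut.conj h • vgrp Z K = vgrp Z (MulAut.conj h • K) := by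
  show Subgroup.map (MulAut.conj h).toMonoidHom _ = _
  rw [vgrp, Subgroup.map_iSup]
  refine le_antisymm (iSup_le fun k => le_iSup_of_le ⟨_, Coprime.conj_mem_conj_smul k.2⟩ ?_)
    (iSup_le fun x => le_iSup_of_le ⟨_, Coprime.mem_conj_smul.mp x.2⟩ ?_)
  · show MulAut.conj h • MulAut.conj (k : G) • Z ≤ MulAut.conj (h * k * h⁻¹) • Z
    rw [← Coprime.conj_smul_mul, Coprime.conj_smul_mul (h * k) h⁻¹,
      Coprime.conj_smul_eq_self_iff.mpr (inv_mem hZ)]
  · show MulAut.conj (x : G) • Z ≤ MulAut.conj h • MulAut.conj (h⁻¹ * x * h) • Z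
    rw [← Coprime.conj_smul_mul, show h * (h⁻¹ * x * h) = (x : G) * h by group,
      Coprime.conj_smul_mul, Coprime.conj_smul_eq_self_iff.mpr hZ]

lemma mem_normalizer_of_iSup {ι : Type*} {V : ι → Subgroup G} [Finite G] {g : G}
    (h : ∀ i, ∃ j, MulAut.conj g • V i ≤ V j) :
    g ∈ normalizer ((⨆ i, V i : Subgroup G) : Set G) := by
  refine Coprime.conj_smul_eq_self_iff.mp (eq_of_le_of_card_ge ?_ (by rw [Coprime.card_conj_smul]))
  show Subgroup.map (MulAut.conj g).toMonoidHom _ ≤ _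
  rw [Subgroup.map_iSup]
  refine iSup_le fun i => ?_
  obtain ⟨j, hj⟩ := h i
  exact le_iSup_of_le j hj

lemma elem_iSup {p : ℕ} {ι : Type*} {V : ι → Subgroup G}
    (h : ∀ i, Cfsg.IsElementaryAbelian p (V i))
    (hc : ∀ i j, V i ≤ centralizer (V j : Set G)) : Cfsg.IsElementaryAbelian p (⨆ i, V i : Subgroup G) := by
  have hab : (⨆ i, V i) ≤ centralizer ((⨆ i, V i : Subgroup G) : Set G) :=
    iSup_le fun i => le_centralizer_iff.mp (iSup_le fun j => hc j i)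
  refine PLocal.ThompsonSubgroup.isElementaryAbelian_iff.mpr
    ⟨fun a ha b hb => (mem_centralizer_iff.mp (hab hb) a ha), fun a ha => ?_⟩
  set W := ⨆ i, V i
  let S : Subgroup G :=
    { carrier := {b | b ∈ W ∧ b ^ p = 1}
      one_mem' := ⟨one_mem _, one_pow p⟩
      mul_mem' := fun {x y} hx hy => ⟨mul_mem hx.1 hy.1, by
        rw [(show Commute x y from mem_centralizer_iff.mp (hab hy.1) x hx.1).mul_pow, hx.2, hy.2,
          one_mul]⟩
      inv_mem' := fun {x} hx => ⟨inv_mem hx.1, by rw [inv_pow, hx.2, inv_one]⟩ }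
  have hle : W ≤ S := iSup_le fun i x hx => ⟨le_iSup V i hx, (h i).2 x hx⟩
  exact (hle ha).2

variable [Finite G] {r p : ℕ}

lemma sqOn_of_normal {p : ℕ} {V R : Subgroup G} (hR : Cfsg.IsElementaryAbelian p R)
    (hVR : V ≤ normalizer (R : Set G)) : Linear.SqOn V R := by
  intro x hx y hy v hv
  refine Hyperplane.mem_comm hR hx ?_
  rw [commutatorElement_def, mul_assoc, mul_assoc, ← mul_assoc v]
  exact R.mul_mem hy (Linear.conj_mem_of_normalizer (hVR hv) (R.inv_mem hy))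


lemma conj_pCoreOf (p : ℕ) (K : Subgroup G) (g : G) :
    MulAut.conj g • Cfsg.pCoreOf p K = Cfsg.pCoreOf p (MulAut.conj g • K) := by
  have key : ∀ (K : Subgroup G) (g : G),
      MulAut.conj g • Cfsg.pCoreOf p K ≤ Cfsg.pCoreOf p (MulAut.conj g • K) := fun K g => by
    refine le_pCoreOf (pointwise_smul_le_pointwise_smul_iff.mpr (pCoreOf_le p K)) ?_
      ((pCoreOf_isPGroup p K).map _)
    rw [← Coprime.conj_smul_normalizer]
    exact pointwise_smul_le_pointwise_smul_iff.mpr (le_normalizer_pCoreOf p K)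
  refine le_antisymm (key K g) ?_
  have h : MulAut.conj g • MulAut.conj g⁻¹ • Cfsg.pCoreOf p (MulAut.conj g • K) ≤
      MulAut.conj g • Cfsg.pCoreOf p (MulAut.conj g⁻¹ • MulAut.conj g • K) :=
    pointwise_smul_le_pointwise_smul_iff.mpr (key (MulAut.conj g • K) g⁻¹)
  rwa [← Coprime.conj_smul_mul, mul_inv_cancel, Coprime.conj_smul_one, Coprime.conj_inv_smul_smul] at h

lemma Reduced.conj {K V : Subgroup G} (h : Reduced p K V) (g : G) :
    Reduced p (MulAut.conj g • K) (MulAut.conj g • V) := by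
  intro M hMK hKM hpow m hm
  have hback : ∀ X : Subgroup G, MulAut.conj g⁻¹ • MulAut.conj g • X = X := fun X => by
    rw [← Coprime.conj_smul_mul, inv_mul_cancel, Coprime.conj_smul_one]
  have hle := h (MulAut.conj g⁻¹ • M) ?_ ?_ ?_ ⟨m, hm, rfl⟩
  · refine mem_centralizer_iff.mpr ?_
    rintro _ ⟨v, hv, rfl⟩
    have h1 : v * (g⁻¹ * m * g⁻¹⁻¹) = g⁻¹ * m * g⁻¹⁻¹ * v := mem_centralizer_iff.mp hle v hv
    show g * v * g⁻¹ * m = m * (g * v * g⁻¹)
    calc g * v * g⁻¹ * m = g * (v * (g⁻¹ * m * g⁻¹⁻¹)) * g⁻¹ := by group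
      _ = g * (g⁻¹ * m * g⁻¹⁻¹ * v) * g⁻¹ := by rw [h1]
      _ = _ := by group
  · exact hback K ▸ pointwise_smul_le_pointwise_smul_iff.mpr hMK
  · rw [← Coprime.conj_smul_normalizer]
    exact hback K ▸ pointwise_smul_le_pointwise_smul_iff.mpr hKM
  · rintro _ ⟨n, hn, rfl⟩
    obtain ⟨k, hk⟩ := hpow n hn
    refine ⟨k, mem_centralizer_iff.mpr fun v hv => ?_⟩
    have h1 := mem_centralizer_iff.mp hk (g * v * g⁻¹) ⟨v, hv, rfl⟩
    show v * (g⁻¹ * n * g⁻¹⁻¹) ^ p ^ k = (g⁻¹ * n * g⁻¹⁻¹) ^ p ^ k * v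
    rw [conj_pow, inv_inv]
    calc v * (g⁻¹ * n ^ p ^ k * g) = g⁻¹ * (g * v * g⁻¹ * n ^ p ^ k) * g := by group
      _ = g⁻¹ * (n ^ p ^ k * (g * v * g⁻¹)) * g := by rw [h1]
      _ = _ := by group

namespace Hyp

variable {𝒢 : Set (Subgroup G)} {T Z K : Subgroup G} {A : Subgroup G → Subgroup G}
  (H : Hyp r p 𝒢 T Z A)
include H

lemma core_conj (hK : K ∈ 𝒢) {k : G} (hk : k ∈ K) :
    MulAut.conj k • Cfsg.pCoreOf p K = Cfsg.pCoreOf p K :=
  haveI := hK
  Coprime.conj_smul_eq_self_iff.mpr (le_normalizer_pCoreOf p K hk)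

lemma core_le_conj (hK : K ∈ 𝒢) {k : G} (hk : k ∈ K) :
    Cfsg.pCoreOf p K ≤ MulAut.conj k • T :=
  H.core_conj hK hk ▸ pointwise_smul_le_pointwise_smul_iff.mpr (H.coreT K hK)

omit H in
lemma vgrp_normalizer {g : G} (hg : g ∈ normalizer (K : Set G)) (hz : g ∈ normalizer (Z : Set G)) :
    g ∈ normalizer (vgrp Z K : Set G) := by
  refine mem_normalizer_of_iSup fun k => ⟨⟨g * k * g⁻¹, Linear.conj_mem_of_normalizer hg k.2⟩, ?_⟩
  rw [← Coprime.conj_smul_mul]
  show _ ≤ MulAut.conj (g * k * g⁻¹) • Z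
  rw [Coprime.conj_smul_mul (g * k) g⁻¹, Coprime.conj_smul_eq_self_iff.mpr (inv_mem hz)]

omit H in
lemma le_normalizer_vgrp : K ≤ normalizer (vgrp Z K : Set G) := by
  intro g hg
  refine mem_normalizer_of_iSup fun k => ⟨⟨g * k, K.mul_mem hg k.2⟩, ?_⟩
  rw [← Coprime.conj_smul_mul]

lemma A_normalizer_vgrp (hK : K ∈ 𝒢) : A K ≤ normalizer (vgrp Z K : Set G) :=
  fun _ ha => vgrp_normalizer ((H.loc K hK).AK ha) (H.AZ K hK ha)

lemma vgrp_le_core (hK : K ∈ 𝒢) : vgrp Z K ≤ Cfsg.pCoreOf p K :=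
  iSup_le fun k => H.core_conj hK k.2 ▸ pointwise_smul_le_pointwise_smul_iff.mpr (H.zcore K hK)

lemma vgrp_le_T (hK : K ∈ 𝒢) : vgrp Z K ≤ T := (H.vgrp_le_core hK).trans (H.coreT K hK)

lemma core_centralizes_vgrp (hK : K ∈ 𝒢) :
    Cfsg.pCoreOf p K ≤ centralizer (vgrp Z K : Set G) := by
  refine le_centralizer_iff.mp (iSup_le fun k => le_centralizer_iff.mp ?_)
  intro x hx
  rw [← H.core_conj hK k.2] at hx
  obtain ⟨y, hy, rfl⟩ := hx
  refine mem_centralizer_iff.mpr ?_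
  rintro _ ⟨z, hz, rfl⟩
  have h := mem_centralizer_iff.mp (H.zT (H.coreT K hK hy)) z hz
  show (k : G) * z * (k : G)⁻¹ * ((k : G) * y * (k : G)⁻¹) =
    (k : G) * y * (k : G)⁻¹ * ((k : G) * z * (k : G)⁻¹)
  calc _ = (k : G) * (z * y) * (k : G)⁻¹ := by group
    _ = (k : G) * (y * z) * (k : G)⁻¹ := by rw [h]
    _ = _ := by group

lemma vgrp_elem (hK : K ∈ 𝒢) : Cfsg.IsElementaryAbelian p (vgrp Z K) := by
  refine elem_iSup (fun k => PLocal.ThompsonSubgroup.IsElementaryAbelian.map H.zelem _) fun i j => ?_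
  have h1 : MulAut.conj (i : G) • Z ≤ Cfsg.pCoreOf p K :=
    (le_iSup (fun k : K => MulAut.conj (k : G) • Z) i).trans (H.vgrp_le_core hK)
  exact h1.trans ((H.core_centralizes_vgrp hK).trans
    (centralizer_le (SetLike.coe_subset_coe.mpr (le_iSup (fun k : K => MulAut.conj (k : G) • Z) j))))

omit H in
lemma vgrp_conj_self {k : G} (hk : k ∈ K) : MulAut.conj k • vgrp Z K = vgrp Z K :=
  Coprime.conj_smul_eq_self_iff.mpr (le_normalizer_vgrp hk)

omit H in
lemma le_normalizer_ugrp {L : Subgroup G} : L ≤ normalizer (ugrp 𝒢 Z L : Set G) := by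
  intro g hg
  refine mem_normalizer_of_iSup fun l => ⟨⟨g * l, L.mul_mem hg l.2⟩, ?_⟩
  show Subgroup.map (MulAut.conj g).toMonoidHom _ ≤ _
  rw [Subgroup.map_iSup]
  refine iSup_mono fun M => ?_
  show MulAut.conj g • MulAut.conj (l : G) • vgrp Z (M : Subgroup G) ≤ _
  rw [← Coprime.conj_smul_mul]

lemma A_normalizer_ugrp {L : Subgroup G} (hL : L ∈ 𝒢) :
    A L ≤ normalizer (ugrp 𝒢 Z L : Set G) := by
  intro g hg
  refine mem_normalizer_of_iSup fun l =>
    ⟨⟨g * l * g⁻¹, Linear.conj_mem_of_normalizer ((H.loc L hL).AK hg) l.2⟩, ?_⟩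
  show Subgroup.map (MulAut.conj g).toMonoidHom _ ≤ _
  rw [Subgroup.map_iSup]
  refine iSup_le fun M => le_iSup_of_le ⟨_, H.perm L hL g hg M M.2⟩ ?_
  show MulAut.conj g • MulAut.conj (l : G) • vgrp Z (M : Subgroup G) ≤
    MulAut.conj (g * l * g⁻¹) • vgrp Z (MulAut.conj g • (M : Subgroup G))
  rw [← vgrp_conj (H.AZ L hL hg), ← Coprime.conj_smul_mul, ← Coprime.conj_smul_mul,
    inv_mul_cancel_right]

variable [hp : Fact p.Prime]

/-- Two translates normalising each other commute. -/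
theorem commute_of_mutual {X Y : Subgroup G} (hX : X ∈ 𝒢) (hY : Y ∈ 𝒢) {g : G}
    (h1 : MulAut.conj g • vgrp Z Y ≤ T) (h2 : vgrp Z X ≤ MulAut.conj g • T) :
    MulAut.conj g • vgrp Z Y ≤ centralizer (vgrp Z X : Set G) := by
  set VX := vgrp Z X
  set VY := MulAut.conj g • vgrp Z Y
  have hVXe := H.vgrp_elem hX
  have hVYe : Cfsg.IsElementaryAbelian p VY :=
    PLocal.ThompsonSubgroup.IsElementaryAbelian.map (H.vgrp_elem hY) _
  have lY := (H.loc Y hY).conj g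
  have hYX : VY ≤ normalizer (VX : Set G) := h1.trans ((H.loc X hX).TK.trans le_normalizer_vgrp)
  have hYn : MulAut.conj g • Y ≤ normalizer (VY : Set G) := by
    rw [← Coprime.conj_smul_normalizer]
    exact pointwise_smul_le_pointwise_smul_iff.mpr le_normalizer_vgrp
  have hXY : VX ≤ normalizer (VY : Set G) :=
    h2.trans ((pointwise_smul_le_pointwise_smul_iff.mpr (H.loc Y hY).TK).trans hYn)
  have b1 := ((H.loc X hX).quad hVXe le_normalizer_vgrp (H.A_normalizer_vgrp hX) (H.red X hX) hVYe h1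
    (sqOn_of_normal hVYe hXY)).2
  have b2 := (lY.quad hVYe hYn (by
      rw [← Coprime.conj_smul_normalizer]
      exact pointwise_smul_le_pointwise_smul_iff.mpr (H.A_normalizer_vgrp hY))
    ((H.red Y hY).conj g) hVXe h2 (sqOn_of_normal hVXe hYX)).2
  by_contra hne
  have c1 := b1 hne
  have c2 := b2 fun h => hne (le_centralizer_iff.mp h)
  set a := Nat.card VY
  set b := Nat.card VX
  set ca := Nat.card ↥(VY ⊓ centralizer (VX : Set G))
  set cb := Nat.card ↥(VX ⊓ centralizer (VY : Set G))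
  have ha : ca ≤ a := card_le_of_le inf_le_left
  have hb : cb ≤ b := card_le_of_le inf_le_left
  have h3 := Nat.mul_lt_mul_of_lt_of_lt c1 c2
  have h4 : a * b * (ca * cb) ≤ a * b * (a * b) := Nat.mul_le_mul_left _ (Nat.mul_le_mul ha hb)
  have h5 : a * b < ca * cb := by
    by_contra h6
    push Not at h6
    have : a ^ 2 * cb * (b ^ 2 * ca) ≥ b * ca ^ 2 * (a * cb ^ 2) := by
      calc b * ca ^ 2 * (a * cb ^ 2) = a * b * (ca * cb) * (ca * cb) := by ring
        _ ≤ a * b * (ca * cb) * (a * b) := Nat.mul_le_mul_left _ h6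
        _ = _ := by ring
    exact (not_lt.mpr this) h3
  exact (not_lt.mpr (Nat.mul_le_mul ha hb)) h5

end Hyp

end Cfsg.Agent.SolvableSignalizer.Amalgam
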