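import Cfsg.Agent.Lib.SolvableSignalizer.Linear.QuadBound

/-!
Solvable groups `K` with a common `p`-subgroup `T` normalised by the fixed points of a coprime group
`A`: bounds on the action of subgroups of `T` on elementary abelian groups normalised by `K` and `A`.
-/

set_option autoImplicit false
set_option linter.style.haveILetI false
set_option linter.unusedSectionVars false

namespace Cfsg.Agent.SolvableSignalizer.Amalgam

open Subgroup
open Cfsg.Agent.Components
open scoped commutatorElement Pointwise

universe u v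

variable {G : Type u} [Group G] [Finite G]

/-- The hypotheses. -/
structure Local (r p : ℕ) (K T A : Subgroup G) : Prop where
  primeR : r.Prime
  ne : r ≠ p
  solv : Group.IsSolvable K
  TK : T ≤ K
  pT : IsPGroup p T
  elemA : Cfsg.IsElementaryAbelian r A
  AK : A ≤ normalizer (K : Set G)
  AT : A ≤ normalizer (T : Set G)
  coprime : ¬ r ∣ Nat.card K
  fixed : K ⊓ centralizer (A : Set G) ≤ normalizer (T : Set G)

/-- No nontrivial normal subgroup of `K` acts on `V` as a `p`-group. -/
def Reduced (p : ℕ) (K V : Subgroup G) : Prop :=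
  ∀ N : Subgroup G, N ≤ K → K ≤ normalizer (N : Set G) →
    (∀ n ∈ N, ∃ k : ℕ, n ^ p ^ k ∈ centralizer (V : Set G)) → N ≤ centralizer (V : Set G)

variable {r p : ℕ} {K T A : Subgroup G}

omit [Finite G] in
lemma normalizer_map_le {H : Type v} [Group H] (φ : G →* H) {X Y : Subgroup G}
    (h : X ≤ normalizer (Y : Set G)) : X.map φ ≤ normalizer ((Y.map φ : Subgroup H) : Set H) :=
  (Subgroup.map_mono h).trans (Subgroup.le_normalizer_map φ)

namespace Local

lemma cop (l : Local r p K T A) : (Nat.card A).Coprime (Nat.card K) :=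
  haveI := Fact.mk l.primeR
  Signalizer.coprime_member l.elemA l.coprime

lemma map {H : Type v} [Group H] [Finite H] (φ : G →* H) (l : Local r p K T A) :
    Local r p (K.map φ) (T.map φ) (A.map φ) where
  primeR := l.primeR
  ne := l.ne
  solv := Coprime.isSolvable_map φ l.solv
  TK := map_mono l.TK
  pT := l.pT.map φ
  elemA := PLocal.ThompsonSubgroup.IsElementaryAbelian.map l.elemA φ
  AK := normalizer_map_le φ l.AK
  AT := normalizer_map_le φ l.AT
  coprime h := l.coprime (h.trans (Subgroup.card_map_dvd K φ))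
  fixed := by
    haveI := l.elemA.1
    rw [← Coprime.map_inf_centralizer φ l.AK l.cop
      (Or.inl (Coprime.isSolvable_of_isMulCommutative A))]
    exact normalizer_map_le φ l.fixed

lemma conj (l : Local r p K T A) (g : G) :
    Local r p (MulAut.conj g • K) (MulAut.conj g • T) (MulAut.conj g • A) :=
  l.map (MulAut.conj g).toMonoidHom

lemma restrict (l : Local r p K T A) {N : Subgroup G} (hK : K ≤ N) (hA : A ≤ N) :
    Local r p (K.subgroupOf N) (T.subgroupOf N) (A.subgroupOf N) where
  primeR := l.primeR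
  ne := l.ne
  solv := by
    haveI := l.solv
    exact Group.isSolvable_of_isSolvable_injective (f := (subgroupOfEquivOfLe hK).toMonoidHom)
      (subgroupOfEquivOfLe hK).injective
  TK := fun _ hx => l.TK hx
  pT := l.pT.comap_subtype
  elemA := PLocal.ThompsonSubgroup.IsElementaryAbelian.comap l.elemA N.subtype_injective
  AK := fun a ha => mem_normalizer_iff.mpr fun k => by
    simpa [mem_subgroupOf] using mem_normalizer_iff.mp (l.AK ha) (k : G)
  AT := fun a ha => mem_normalizer_iff.mpr fun k => by
    simpa [mem_subgroupOf] using mem_normalizer_iff.mp (l.AT ha) (k : G)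
  coprime h := l.coprime (by rwa [Nat.card_congr (subgroupOfEquivOfLe hK).toEquiv] at h)
  fixed := by
    rintro c ⟨hc, hcA⟩
    have h : (c : G) ∈ normalizer (T : Set G) := l.fixed ⟨hc, mem_centralizer_iff.mpr fun a ha =>
      congrArg Subtype.val (mem_centralizer_iff.mp hcA ⟨a, hA ha⟩ ha)⟩
    exact mem_normalizer_iff.mpr fun k => by
      simpa [mem_subgroupOf] using mem_normalizer_iff.mp h (k : G)

variable [hp : Fact p.Prime]

open Linear in
/-- The faithful image. -/
theorem exists_frame (l : Local r p K T A) {V : Subgroup G} [V.Normal]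
    (hV : Cfsg.IsElementaryAbelian p V) (hred : Reduced p K V) :
    ∃ F : Subgroup (PLocal.Offender.Sec.Amb V), F ≤ K.map (PLocal.Offender.Sec.img V) ∧
      Frame r p (PLocal.Offender.Sec.base V) F (T.map (PLocal.Offender.Sec.img V))
        (A.map (PLocal.Offender.Sec.img V)) := by
  set φ := PLocal.Offender.Sec.img V with hφ
  set L := K.map φ with hL
  have l' := l.map φ
  haveI : Finite (PLocal.Offender.Sec.Amb V) := inferInstance
  have hnorm : ∀ X : Subgroup G, X.map φ ≤ normalizer (PLocal.Offender.Sec.base V : Set _) :=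
    fun X => (map_le_range φ X).trans (PLocal.Offender.Sec.range_le_normalizer V)
  have hcore : Cfsg.pCoreOf p L = ⊥ := by
    set N := (Cfsg.pCoreOf p L).comap φ ⊓ K
    have hN := hred N inf_le_right ?_ ?_
    · rw [eq_bot_iff]
      intro y hy
      obtain ⟨k, hk, rfl⟩ : y ∈ L := pCoreOf_le p L hy
      have h : k ∈ φ.ker := (PLocal.Offender.Sec.ker_img V).ge (hN ⟨hy, hk⟩)
      exact mem_bot.mpr h
    · refine le_trans (le_inf ?_ le_normalizer) inf_normalizer_le_normalizer_inf
      intro k hk
      refine mem_normalizer_iff.mpr fun x => ?_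
      simp only [mem_comap, map_mul, map_inv]
      exact mem_normalizer_iff.mp (le_normalizer_pCoreOf p L ⟨k, hk, rfl⟩) _
    · intro n hn
      obtain ⟨k, hk⟩ := pCoreOf_isPGroup p L ⟨φ n, hn.1⟩
      refine ⟨k, (PLocal.Offender.Sec.ker_img V).le ?_⟩
      rw [MonoidHom.mem_ker, map_pow]
      exact congrArg Subtype.val hk
  set F := fitOf L with hF
  have hFL : F ≤ L := fitOf_le L
  have hpF : ¬ p ∣ Nat.card F := by
    intro hd
    obtain ⟨y, hy⟩ := exists_prime_orderOf_dvd_card' p hd
    have hyp : IsPGroup p (zpowers (y : PLocal.Offender.Sec.Amb V)) :=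
      IsPGroup.of_card (n := 1) (by rw [Nat.card_zpowers, orderOf_coe, hy, pow_one])
    have h := pgroup_fitOf_le (zpowers_le.mpr y.2) hyp
    rw [hcore, le_bot_iff, zpowers_eq_bot] at h
    rw [← orderOf_coe, h, orderOf_one] at hy
    exact hp.out.ne_one hy.symm
  have hTF : T.map φ ≤ normalizer (F : Set _) :=
    l'.TK.trans (le_normalizer.trans (normalizer_le_fitOf L))
  have hTdisj : ∀ y ∈ T.map φ, y ∈ F → y = 1 := fun y hy hyF => by
    obtain ⟨k, hk⟩ := l'.pT ⟨y, hy⟩
    refine orderOf_eq_one_iff.mp (Nat.eq_one_of_dvd_coprimes ?_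
      (Subgroup.orderOf_dvd_natCard _ hyF) (orderOf_dvd_of_pow_eq_one (congrArg Subtype.val hk :)))
    exact Nat.Coprime.pow_right k (hp.out.coprime_iff_not_dvd.mpr hpF).symm
  refine ⟨F, hFL, l.primeR, l.ne, PLocal.Offender.Sec.base_elem V hV, hFL.trans (hnorm K), hnorm T,
    hnorm A, ?_, hpF, fun h => l'.coprime (h.trans (card_dvd_of_le hFL)), l'.pT, l'.elemA, hTF,
    l'.AK.trans (normalizer_le_fitOf L), l'.AT,
    le_bot_iff.mp ((inf_le_inf_right _ hFL).trans (PLocal.Offender.Sec.faithful V K).le), ?_, ?_⟩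
  · haveI := Cores.fittingSubgroup_isNilpotent (G := L)
    exact Group.nilpotent_of_mulEquiv
      (equivMapOfInjective _ L.subtype L.subtype_injective)
  · rw [eq_bot_iff]
    rintro y ⟨hy, hyF⟩
    exact mem_bot.mpr (hTdisj y hy (inf_centralizer_fitOf_le l'.solv ⟨l'.TK hy, hyF⟩))
  · intro u hu
    have hun : u ∈ normalizer ((T.map φ : Subgroup _) : Set _) :=
      l'.fixed ⟨hFL hu.1, hu.2⟩
    refine mem_centralizer_iff.mpr fun t ht => ?_
    refine commutatorElement_eq_one_iff_mul_comm.mp (hTdisj _ ?_ ?_)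
    · rw [commutatorElement_def, mul_assoc, mul_assoc, ← mul_assoc u]
      exact Subgroup.mul_mem _ ht (Linear.conj_mem_of_normalizer hun (Subgroup.inv_mem _ ht))
    · rw [commutatorElement_def]
      exact F.mul_mem (Linear.conj_mem_of_normalizer (hTF ht) hu.1) (F.inv_mem hu.1)

end Local

end Cfsg.Agent.SolvableSignalizer.Amalgam
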