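import Cfsg.Agent.Lib.SolvableSignalizer.Amalgam.One

/-!
A nontrivial `p`-subgroup of `T` normalised by all members of the family, and by every element
permuting the family and normalising `Z`.
-/

set_option autoImplicit false
set_option linter.style.haveILetI false
set_option linter.unusedSectionVars false

namespace Cfsg.Agent.SolvableSignalizer.Amalgam

open Subgroup
open Cfsg.Agent.Components
open scoped commutatorElement Pointwise

universe u

variable {G : Type u} [Group G] [Finite G]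

lemma Reach.conj {𝒢 : Set (Subgroup G)} {k : ℕ} {K L : Subgroup G} {g h : G}
    (hperm : ∀ X ∈ 𝒢, MulAut.conj h • X ∈ 𝒢) (hr : Reach 𝒢 k K g L) :
    Reach 𝒢 k (MulAut.conj h • K) (h * g * h⁻¹) (MulAut.conj h • L) := by
  induction hr with
  | base hK hg => exact .base (hperm _ hK) (Coprime.conj_mem_conj_smul hg)
  | @step k K L M g l m _ hl hM hm ih =>
    rw [show h * (g * l * m) * h⁻¹ = h * g * h⁻¹ * (h * l * h⁻¹) * (h * m * h⁻¹) by group]
    exact .step ih (Coprime.conj_mem_conj_smul hl) (hperm _ hM) (Coprime.conj_mem_conj_smul hm)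

variable {r p : ℕ} [hp : Fact p.Prime] {𝒢 : Set (Subgroup G)} {T Z : Subgroup G} {A : Subgroup G → Subgroup G}

theorem Hyp.not_bad (H : Hyp r p 𝒢 T Z A) (k : ℕ) : ¬ Bad p 𝒢 Z k := by
  induction k using Nat.strong_induction_on with
  | _ k ih =>
  match k with
  | 0 => exact H.not_bad_zero
  | 1 =>
    rintro ⟨K, g, L, hr, hn⟩
    obtain ⟨M, h, l, m, hr₀, hl, hm, rfl⟩ := hr.last
    cases hr₀ with
    | base hK hh =>
      rw [Coprime.conj_smul_mul, Hyp.vgrp_conj_self hm,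
        ← H.core_conj hK (K.mul_mem hh hl)] at hn
      exact hn (pointwise_smul_le_pointwise_smul_iff.mpr (H.vgrp_le_all hK hr.right_mem))
  | n + 2 => exact H.not_far fun j hj => ih j (by omega)

/-- The subgroup. -/
theorem Hyp.exists_normalized (H : Hyp r p 𝒢 T Z A) {K₀ : Subgroup G} (hK₀ : K₀ ∈ 𝒢) :
    ∃ U : Subgroup G, U ≠ ⊥ ∧ U ≤ T ∧ (∀ K ∈ 𝒢, K ≤ normalizer (U : Set G)) ∧
      ∀ h : G, (∀ X ∈ 𝒢, MulAut.conj h • X ∈ 𝒢) → h ∈ normalizer (Z : Set G) →
        h ∈ normalizer (U : Set G) := by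
  let ι := { x : G × Subgroup G // ∃ k K, Reach 𝒢 k K x.1 x.2 }
  refine ⟨⨆ i : ι, MulAut.conj i.1.1 • vgrp Z i.1.2, ?_, iSup_le fun i => ?_, ?_, ?_⟩
  · intro h
    refine H.zne (le_bot_iff.mp (h ▸ le_iSup_of_le
      (⟨(1, K₀), 0, K₀, .base hK₀ (one_mem K₀)⟩ : ι) ?_))
    rw [Coprime.conj_smul_one]
    exact le_vgrp Z K₀
  · obtain ⟨⟨g, L⟩, k, K, hr⟩ := i
    have h : MulAut.conj g • vgrp Z L ≤ Cfsg.pCoreOf p K := by
      by_contra hn
      exact H.not_bad k ⟨K, g, L, hr, hn⟩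
    exact h.trans (H.coreT K hr.left_mem)
  · intro K hK a ha
    refine mem_normalizer_of_iSup fun i => ?_
    obtain ⟨⟨g, L⟩, k, K', hr⟩ := i
    have h1 := (Reach.adj hK hr.left_mem ha (one_mem K')).trans hr
    rw [mul_one] at h1
    exact ⟨⟨(a * g, L), _, K, h1⟩, by rw [Coprime.conj_smul_mul]⟩
  · intro h hperm hZ
    refine mem_normalizer_of_iSup fun i => ?_
    obtain ⟨⟨g, L⟩, k, K', hr⟩ := i
    refine ⟨⟨(h * g * h⁻¹, MulAut.conj h • L), k, _, hr.conj hperm⟩, ?_⟩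
    show MulAut.conj h • MulAut.conj g • vgrp Z L ≤
      MulAut.conj (h * g * h⁻¹) • vgrp Z (MulAut.conj h • L)
    rw [← vgrp_conj hZ, ← Coprime.conj_smul_mul, ← Coprime.conj_smul_mul, inv_mul_cancel_right]

end Cfsg.Agent.SolvableSignalizer.Amalgam
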