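import Cfsg.Agent.Lib.SolvableSignalizer.Amalgam.Far
import Cfsg.Agent.Lib.Coprime.Commutator
import Cfsg.Agent.Lib.Coprime.OmegaDetect

/-!
The least bad distance is not one.
-/

set_option autoImplicit false
set_option linter.style.haveILetI false
set_option linter.unusedSectionVars false

namespace Cfsg.Agent.SolvableSignalizer.Amalgam

open Subgroup
open Cfsg.Agent.Components
open scoped commutatorElement Pointwise

universe u

variable {G : Type u} [Group G] [Finite G] {p : ℕ} [hp : Fact p.Prime]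

/-- A `p'`-element of `K` acting trivially on `P / Φ(P)` is trivial, for `P = O_p(K)`. -/
lemma eq_one_of_frattini {K : Subgroup G}
    (hcent : K ⊓ centralizer ((Cfsg.pCoreOf p K : Subgroup G) : Set G) ≤ Cfsg.pCoreOf p K)
    {x : G} (hx : x ∈ K) (ho : (orderOf x).Coprime p)
    (htriv : ∀ k ∈ Cfsg.pCoreOf p K, x * k * x⁻¹ * k⁻¹ ∈
      (frattini (Cfsg.pCoreOf p K)).map (Cfsg.pCoreOf p K).subtype) : x = 1 := by
  set P := Cfsg.pCoreOf p K with hP
  have hxn : x ∈ normalizer (P : Set G) := le_normalizer_pCoreOf p K hx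
  set Φ := (frattini P).map P.subtype with hΦ
  have hxΦ : x ∈ normalizer (Φ : Set G) :=
    Coprime.OmegaDetect.normalizer_le_normalizer_char P (frattini P) hxn
  have htriv' : ∀ i : ℤ, ∀ k ∈ P, x ^ i * k * (x ^ i)⁻¹ * k⁻¹ ∈ Φ := by
    intro i
    induction i using Int.induction_on with
    | zero => intro k _; simp
    | succ i ih =>
      intro k hk
      have h1 := ih (x * k * x⁻¹) (Linear.conj_mem_of_normalizer hxn hk)
      have h2 := Φ.mul_mem h1 (htriv k hk)
      convert h2 using 1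
      rw [zpow_add_one]
      group
    | pred i ih =>
      intro k hk
      have hk' : x⁻¹ * k * x ∈ P := Linear.conj_mem_of_normalizer' hxn hk
      have h1 := ih (x⁻¹ * k * x) hk'
      have h2 := Φ.mul_mem h1 (Φ.inv_mem (htriv (x⁻¹ * k * x) hk'))
      convert h2 using 1
      rw [zpow_sub_one]
      group
  have hPp : IsPGroup p P := pCoreOf_isPGroup p K
  obtain ⟨j, hj⟩ := IsPGroup.iff_card.mp (hPp.to_subgroup (frattini P))
  have hc : zpowers x ≤ centralizer (P : Set G) := by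
    refine Coprime.le_centralizer_of_frattini (zpowers_le.mpr hxn) ?_ ?_
    · rw [Nat.card_zpowers, hj]
      exact ho.pow_right j
    · rintro _ ⟨i, rfl⟩ k hk
      exact htriv' i k hk
  obtain ⟨i, hi⟩ := hPp ⟨x, hcent ⟨hx, hc (mem_zpowers x)⟩⟩
  exact orderOf_eq_one_iff.mp (Nat.eq_one_of_dvd_coprimes (ho.pow_right i)
    dvd_rfl (orderOf_dvd_of_pow_eq_one (congrArg Subtype.val hi)))

namespace Hyp

variable {r : ℕ} {𝒢 : Set (Subgroup G)} {T Z : Subgroup G} {A : Subgroup G → Subgroup G} (H : Hyp r p 𝒢 T Z A)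
include H

/-- Every normal closure of `Z` lies in every core. -/
theorem vgrp_le_all {K : Subgroup G} (hK : K ∈ 𝒢) {L : Subgroup G} (hL : L ∈ 𝒢) :
    vgrp Z L ≤ Cfsg.pCoreOf p K := by
  classical
  by_contra hLK
  set P := Cfsg.pCoreOf p K with hP
  -- the join of the normal closures
  set R := ⨆ X : 𝒢, vgrp Z (X : Subgroup G) with hR
  have hcomm : ∀ X Y : 𝒢, vgrp Z (Y : Subgroup G) ≤ centralizer (vgrp Z (X : Subgroup G) : Set G) :=
    fun X Y => by
      have h := H.commute_of_mutual X.2 Y.2 (g := 1)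
        (by rw [Coprime.conj_smul_one]; exact H.vgrp_le_T Y.2)
        (by rw [Coprime.conj_smul_one]; exact H.vgrp_le_T X.2)
      rwa [Coprime.conj_smul_one] at h
  have hRe : Cfsg.IsElementaryAbelian p R := elem_iSup (fun X => H.vgrp_elem X.2) fun X Y => hcomm Y X
  have hRT : R ≤ T := iSup_le fun X => H.vgrp_le_T X.2
  have hTR : T ≤ normalizer (R : Set G) := fun t ht => mem_normalizer_of_iSup fun X =>
    ⟨X, (vgrp_conj_self ((H.loc X X.2).TK ht)).le⟩
  have hRP : ¬ R ≤ P := fun h => hLK ((le_iSup (fun X : 𝒢 => vgrp Z (X : Subgroup G)) ⟨L, hL⟩).trans h)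
  have hPT : P ≤ T := H.coreT K hK
  have hPK : P ≤ K := pCoreOf_le p K
  have hRK : R ≤ K := hRT.trans (H.loc K hK).TK
  set R₀ := R ⊓ P with hR₀
  -- the quotient by the Frattini subgroup of `P`
  set Φ := (frattini P).map P.subtype with hΦ
  have hΦP : Φ ≤ P := map_subtype_le _
  set N := normalizer (Φ : Set G)
  have hcharN : normalizer (P : Set G) ≤ N :=
    Coprime.OmegaDetect.normalizer_le_normalizer_char P (frattini P)
  have hKN : K ≤ N := (le_normalizer_pCoreOf p K).trans hcharN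
  have hAP : A K ≤ normalizer (P : Set G) := (H.loc K hK).AK.trans (normalizer_le_pCoreOf p K)
  have hAN : A K ≤ N := hAP.trans hcharN
  haveI : (Φ.subgroupOf N).Normal := normal_in_normalizer
  set π := QuotientGroup.mk' (Φ.subgroupOf N) with hπ
  have hmem : ∀ y : N, π y = 1 ↔ (y : G) ∈ Φ := fun y =>
    (QuotientGroup.eq_one_iff y).trans mem_subgroupOf
  set Vb := (P.subgroupOf N).map π with hVb
  set Rb := (R.subgroupOf N).map π with hRb
  have lq := ((H.loc K hK).restrict hKN hAN).map π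
  have hPp : IsPGroup p P := pCoreOf_isPGroup p K
  have hVe : Cfsg.IsElementaryAbelian p Vb := by
    refine PLocal.ThompsonSubgroup.isElementaryAbelian_iff.mpr ⟨?_, ?_⟩
    · rintro _ ⟨a, ha, rfl⟩ _ ⟨b, hb, rfl⟩
      refine commutatorElement_eq_one_iff_mul_comm.mp ?_
      rw [← map_commutatorElement, hmem]
      haveI := hPp.isNilpotent
      exact ⟨⁅(⟨a, ha⟩ : P), ⟨b, hb⟩⁆, Coprime.commutator_le_frattini P
        (commutator_mem_commutator (mem_top _) (mem_top _)), rfl⟩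
    · rintro _ ⟨a, ha, rfl⟩
      rw [← map_pow, hmem]
      exact ⟨(⟨a, ha⟩ : P) ^ p, Solvable.Basics.pow_mem_frattini hPp _, rfl⟩
  have hRbe : Cfsg.IsElementaryAbelian p Rb := PLocal.ThompsonSubgroup.IsElementaryAbelian.map
    (PLocal.ThompsonSubgroup.IsElementaryAbelian.comap hRe N.subtype_injective) π
  have hnq : ∀ X Y : Subgroup G, X ≤ normalizer (Y : Set G) →
      (X.subgroupOf N).map π ≤ normalizer (((Y.subgroupOf N).map π : Subgroup _) : Set _) :=
    fun X Y hX => normalizer_map_le π fun y hy => mem_normalizer_iff.mpr fun z => by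
      simpa [mem_subgroupOf] using mem_normalizer_iff.mp (hX hy) (z : G)
  -- elements acting as a `p`-group on `P / Φ` lie in `P`
  have hker : ∀ M : Subgroup G, M ≤ K → K ≤ normalizer (M : Set G) →
      (∀ y : N, (y : G) ∈ M → ∃ k : ℕ, π y ^ p ^ k ∈ centralizer (Vb : Set _)) → M ≤ P := by
    intro M hMK hKM hpow
    refine le_pCoreOf hMK hKM fun g => ?_
    obtain ⟨a, b, hb, hab⟩ := Nat.exists_eq_pow_mul_and_not_dvd (orderOf_pos g).ne' p hp.out.ne_one
    refine ⟨a, Subtype.ext ?_⟩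
    set x : G := (g : G) ^ p ^ a with hx
    have hox : orderOf x ∣ b := orderOf_dvd_of_pow_eq_one (by
      rw [hx, ← pow_mul, ← hab]
      exact congrArg Subtype.val (pow_orderOf_eq_one g))
    have hcop : (orderOf x).Coprime p :=
      Nat.Coprime.coprime_dvd_left hox (hp.out.coprime_iff_not_dvd.mpr hb).symm
    have hxK : x ∈ K := pow_mem (hMK g.2) _
    refine eq_one_of_frattini (H.cent K hK) hxK hcop fun k hk => ?_
    obtain ⟨j, hj⟩ := hpow ⟨x, hKN hxK⟩ (pow_mem g.2 _)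
    obtain ⟨i, hi⟩ := exists_pow_eq_self_of_coprime (hcop.pow_right j).symm
    set z : N := ⟨x, hKN hxK⟩ with hz
    have hzi : (z ^ p ^ j) ^ i = z := Subtype.ext (by simpa [hz] using hi)
    have hc : π z ∈ centralizer (Vb : Set _) := by
      rw [← hzi, map_pow, map_pow]
      exact pow_mem hj i
    have hkN : k ∈ N := hKN (hPK hk)
    have h := mem_centralizer_iff.mp hc _ ⟨⟨k, hkN⟩, hk, rfl⟩
    refine (hmem (z * ⟨k, hkN⟩ * z⁻¹ * ⟨k, hkN⟩⁻¹)).mp ?_
    rw [map_mul, map_mul, map_mul, map_inv, map_inv, ← h]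
    group
  have hred : Reduced p (K.subgroupOf N |>.map π) Vb := by
    intro M hMK hKM hpow
    have h1 : (M.comap π).map N.subtype ⊓ K ≤ P := by
      refine hker _ inf_le_right ?_ ?_
      · intro k hk
        refine Linear.Three.mem_normalizer_of_map_le ?_
        rintro y ⟨⟨z, hz, rfl⟩, hy⟩
        refine ⟨⟨⟨k, hKN hk⟩ * z * ⟨k, hKN hk⟩⁻¹, ?_, rfl⟩,
          K.mul_mem (K.mul_mem hk hy) (K.inv_mem hk)⟩
        show π _ ∈ M
        rw [map_mul, map_mul, map_inv]
        exact Linear.conj_mem_of_normalizer (hKM ⟨_, mem_subgroupOf.mpr hk, rfl⟩) hz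
      · rintro y ⟨⟨z, hz, hze⟩, -⟩
        obtain rfl : z = y := Subtype.ext hze
        exact hpow _ hz
    intro x hx
    obtain ⟨y, hy, rfl⟩ := hMK hx
    have h2 : (y : G) ∈ P := h1 ⟨⟨y, hx, rfl⟩, hy⟩
    exact mem_centralizer_iff.mpr fun v hv => (hVe.1.is_comm.comm ⟨v, hv⟩ ⟨π y, y, h2, rfl⟩ |>
      congrArg Subtype.val)
  obtain ⟨k, hk, hq⟩ := lq.quad_conj hVe (hnq K P (le_normalizer_pCoreOf p K)) (hnq (A K) P hAP) hred hRbe
    (map_mono fun _ h => hRT h) (sqOn_of_normal hRbe (hnq P R (hPT.trans hTR)))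
  obtain ⟨m₀, hm₀, rfl⟩ := hk
  -- the kernel on the quotient
  have hfix : Nat.card ↥(Rb ⊓ centralizer (Vb : Set _)) * Nat.card R ≤
      Nat.card R₀ * Nat.card Rb := by
    have hM : K ⊓ ((centralizer (Vb : Set _)).comap π).map N.subtype ≤ P := by
      refine hker _ inf_le_left ?_ fun y hy => ⟨0, ?_⟩
      · intro k hk
        refine Linear.Three.mem_normalizer_of_map_le ?_
        rintro y ⟨hy, z, hz, rfl⟩
        refine ⟨K.mul_mem (K.mul_mem hk hy) (K.inv_mem hk), ⟨k, hKN hk⟩ * z * ⟨k, hKN hk⟩⁻¹, ?_, rfl⟩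
        show π _ ∈ centralizer (Vb : Set _)
        rw [map_mul, map_mul, map_inv]
        exact Linear.conj_mem_of_normalizer (Linear.normalizer_le_centralizer' _
          (hnq K P (le_normalizer_pCoreOf p K) ⟨_, mem_subgroupOf.mpr hk, rfl⟩)) hz
      · obtain ⟨-, z, hz, hze⟩ := hy
        obtain rfl : z = y := Subtype.ext hze
        simpa using hz
    have h := PLocal.Cores.card_eq_card_inf_ker_mul_card_map (R.subgroupOf N) π
    rw [Nat.card_congr (subgroupOfEquivOfLe (hRK.trans hKN)).toEquiv, ← hRb] at h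
    set S := R.subgroupOf N ⊓ (centralizer (Vb : Set _)).comap π
    have h2 := PLocal.Cores.card_eq_card_inf_ker_mul_card_map S π
    have e1 : S ⊓ π.ker = R.subgroupOf N ⊓ π.ker := le_antisymm (inf_le_inf_right _ inf_le_left)
      (le_inf (le_inf inf_le_left (inf_le_right.trans (MonoidHom.ker_le_comap π _))) inf_le_right)
    have e2 : S.map π = Rb ⊓ centralizer (Vb : Set _) := by
      refine le_antisymm ?_ ?_
      · rintro _ ⟨y, hy, rfl⟩; exact ⟨⟨y, hy.1, rfl⟩, hy.2⟩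
      · rintro _ ⟨⟨y, hy, rfl⟩, hy'⟩; exact ⟨y, ⟨hy, hy'⟩, rfl⟩
    rw [e1, e2] at h2
    have h3 : Nat.card S ≤ Nat.card R₀ := by
      rw [← card_map_of_injective (K := S) N.subtype_injective]
      refine card_le_of_le ?_
      rintro _ ⟨y, hy, rfl⟩
      exact ⟨hy.1, hM ⟨hRK hy.1, y, hy.2, rfl⟩⟩
    calc Nat.card ↥(Rb ⊓ centralizer (Vb : Set _)) * Nat.card R
        = Nat.card S * Nat.card Rb := by rw [h, h2]; ring
      _ ≤ _ := Nat.mul_le_mul_right _ h3
  set Y := (R₀.subgroupOf N).map π with hY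
  set Cb := centralizer ((MulAut.conj (π m₀) • Rb : Subgroup _) : Set (N ⧸ Φ.subgroupOf N))
  set X := (⁅Vb, Rb⁆ : Subgroup (N ⧸ Φ.subgroupOf N))
  have hR₀N : R₀ ≤ N := inf_le_left.trans (hRK.trans hKN)
  have hXY : X ≤ Y := by
    rw [commutator_le]
    rintro _ ⟨a, ha, rfl⟩ _ ⟨b, hb, rfl⟩
    rw [← map_commutatorElement]
    refine ⟨⁅a, b⁆, mem_subgroupOf.mpr ⟨?_, ?_⟩, rfl⟩
    · show ⁅(a : G), (b : G)⁆ ∈ R
      rw [commutatorElement_def]
      exact R.mul_mem (Linear.conj_mem_of_normalizer ((hPT.trans hTR) ha) hb) (R.inv_mem hb)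
    · show ⁅(a : G), (b : G)⁆ ∈ P
      rw [commutatorElement_def, mul_assoc, mul_assoc, ← mul_assoc (b : G)]
      exact P.mul_mem ha (Linear.conj_mem_of_normalizer
        (le_normalizer_pCoreOf p K (hRK hb)) (P.inv_mem ha))
  have hYe : Cfsg.IsElementaryAbelian p Y := PLocal.ThompsonSubgroup.IsElementaryAbelian.map
    (PLocal.ThompsonSubgroup.IsElementaryAbelian.comap (Linear.elem_le hRe inf_le_left)
      N.subtype_injective) π
  have hidx : Nat.card X * Nat.card ↥(Y ⊓ Cb) ≤ Nat.card Y * Nat.card ↥(X ⊓ Cb) := by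
    have h := card_sup_mul_card_inf' (X := X) (Y := Y ⊓ Cb)
      (inf_le_left.trans (Linear.abelian_le_normalizer hYe hXY))
    rw [← h, ← inf_assoc, inf_eq_left.mpr hXY]
    exact Nat.mul_le_mul_right _ (card_le_of_le (sup_le hXY inf_le_left))
  have hidx2 : Nat.card ↥(R₀ ⊓ centralizer ((MulAut.conj (m₀ : G) • R : Subgroup G) : Set G)) *
      Nat.card Y ≤ Nat.card ↥(Y ⊓ Cb) * Nat.card R₀ := by
    set C := (R₀ ⊓ centralizer ((MulAut.conj (m₀ : G) • R : Subgroup G) : Set G)).subgroupOf N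
    have h1 := PLocal.Cores.card_eq_card_inf_ker_mul_card_map C π
    have h2 := PLocal.Cores.card_eq_card_inf_ker_mul_card_map (R₀.subgroupOf N) π
    rw [Nat.card_congr (subgroupOfEquivOfLe (inf_le_left.trans hR₀N)).toEquiv] at h1
    rw [Nat.card_congr (subgroupOfEquivOfLe hR₀N).toEquiv, ← hY] at h2
    have h3 : Nat.card ↥(C ⊓ π.ker) ≤ Nat.card ↥(R₀.subgroupOf N ⊓ π.ker) :=
      card_le_of_le (inf_le_inf_right _ fun y hy => hy.1)
    have h4 : Nat.card (C.map π) ≤ Nat.card ↥(Y ⊓ Cb) := by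
      refine card_le_of_le ?_
      rintro _ ⟨y, hy, rfl⟩
      refine ⟨⟨y, hy.1, rfl⟩, mem_centralizer_iff.mpr ?_⟩
      rintro _ ⟨_, ⟨z, hz, rfl⟩, rfl⟩
      show π m₀ * π z * (π m₀)⁻¹ * π y = π y * (π m₀ * π z * (π m₀)⁻¹)
      rw [← map_inv, ← map_mul, ← map_mul, ← map_mul, ← map_mul]
      exact congrArg π (Subtype.ext (mem_centralizer_iff.mp hy.2 _ ⟨(z : G), hz, rfl⟩))
    rw [h1, h2]
    calc _ ≤ Nat.card ↥(R₀.subgroupOf N ⊓ π.ker) * Nat.card ↥(Y ⊓ Cb) * Nat.card Y :=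
          Nat.mul_le_mul_right _ (Nat.mul_le_mul h3 h4)
      _ = _ := by ring
  -- the smallest centraliser in `R₀` of a conjugate of `R`
  set c : G → ℕ := fun m => Nat.card ↥(R₀ ⊓ centralizer ((MulAut.conj m • R : Subgroup G) : Set G))
  obtain ⟨m, hmK, hmin⟩ := Set.exists_min_image (K : Set G) c (Set.toFinite _) ⟨1, K.one_mem⟩
  have hbase : Nat.card R ^ 2 * c m ≤ Nat.card R₀ ^ 3 := by
    refine (Nat.mul_le_mul_left _ (hmin _ (show (m₀ : G) ∈ K from hm₀))).trans ?_
    refine Nat.le_of_mul_le_mul_right ?_ (Nat.mul_pos (Nat.card_pos (α := Y))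
      (Nat.mul_pos (Nat.card_pos (α := ↥(X ⊓ Cb))) (pow_pos (Nat.card_pos (α := Rb)) 2)))
    set a := Nat.card R
    set a₀ := Nat.card R₀
    set ab := Nat.card Rb
    set cb := Nat.card ↥(Rb ⊓ centralizer (Vb : Set _))
    set x := Nat.card X
    set xc := Nat.card ↥(X ⊓ Cb)
    set y := Nat.card Y
    set yc := Nat.card ↥(Y ⊓ Cb)
    calc a ^ 2 * c m₀ * (y * (xc * ab ^ 2)) = a ^ 2 * (ab ^ 2 * xc) * (c m₀ * y) := by ring
      _ ≤ a ^ 2 * (x * cb ^ 2) * (yc * a₀) := Nat.mul_le_mul (Nat.mul_le_mul_left _ hq) hidx2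
      _ = a₀ * (x * yc) * (cb * a) ^ 2 := by ring
      _ ≤ a₀ * (y * xc) * (a₀ * ab) ^ 2 :=
          Nat.mul_le_mul (Nat.mul_le_mul_left _ hidx) (Nat.pow_le_pow_left hfix 2)
      _ = _ := by ring
  have hlt : Nat.card R₀ < Nat.card R := by
    rcases lt_or_eq_of_le (card_le_of_le (inf_le_left : R₀ ≤ R)) with h | h
    · exact h
    · exact absurd ((eq_of_le_of_card_ge inf_le_left h.ge).ge.trans inf_le_right) hRP
  -- the conjugate inside `P`
  set Q := MulAut.conj m⁻¹ • R₀ with hQ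
  have hQP : Q ≤ P := (pointwise_smul_le_pointwise_smul_iff.mpr inf_le_right).trans
    (H.core_conj hK (K.inv_mem hmK)).le
  have hQe : Cfsg.IsElementaryAbelian p Q :=
    PLocal.ThompsonSubgroup.IsElementaryAbelian.map (Linear.elem_le hRe inf_le_left) _
  letI : Fintype 𝒢 := Fintype.ofFinite _
  have hRs : R = ⨆ X ∈ (Finset.univ : Finset 𝒢), vgrp Z (X : Subgroup G) := by simp [hR]
  have hch := chain_bound (p := p) hRe (fun X : 𝒢 => vgrp Z (X : Subgroup G))
    (fun X => le_iSup (fun X : 𝒢 => vgrp Z (X : Subgroup G)) X)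
    (fun X => (hQP.trans hPT).trans ((H.loc X X.2).TK.trans le_normalizer_vgrp)) 3 2
    (fun X Q' hQ' => ((H.loc X X.2).offender (H.vgrp_elem X.2) le_normalizer_vgrp
      (H.A_normalizer_vgrp X.2) (H.red X X.2) (Linear.elem_le hQe hQ')
      (hQ'.trans (hQP.trans hPT))).1) Finset.univ
  rw [← hRs] at hch
  have hback : MulAut.conj m⁻¹ • MulAut.conj m • R = R := by
    rw [← Coprime.conj_smul_mul, inv_mul_cancel, Coprime.conj_smul_one]
  have hQC : Nat.card ↥(Q ⊓ centralizer (R : Set G)) = c m := by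
    conv_lhs => rw [← hback]
    exact card_conj_inf_centralizer _ _ _
  have hQcard : Nat.card Q = Nat.card R₀ := Coprime.card_conj_smul _ _
  have hnc : ¬ Q ≤ centralizer (R : Set G) := fun h => by
    rw [inf_eq_left.mpr h, hQcard] at hQC
    rw [← hQC] at hbase
    have : Nat.card R₀ ^ 3 < Nat.card R ^ 2 * Nat.card R₀ := by
      rw [pow_succ]
      exact Nat.mul_lt_mul_of_pos_right (Nat.pow_lt_pow_left hlt two_ne_zero) Nat.card_pos
    omega
  have h := hch.2 (fun X Q' hQ' hn => ((H.loc X X.2).offender (H.vgrp_elem X.2) le_normalizer_vgrp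
      (H.A_normalizer_vgrp X.2) (H.red X X.2) (Linear.elem_le hQe hQ')
      (hQ'.trans (hQP.trans hPT))).2 hn) hnc
  rw [hQcard, hQC] at h
  have hBc : c m ≤ Nat.card ↥(R ⊓ centralizer (Q : Set G)) :=
    (hmin _ (K.inv_mem hmK)).trans (card_le_of_le (inf_le_inf inf_le_left (centralizer_le
      (SetLike.coe_subset_coe.mpr (pointwise_smul_le_pointwise_smul_iff.mpr inf_le_left)))))
  refine lt_irrefl (Nat.card R ^ 2 * c m ^ 3) (lt_of_le_of_lt ?_ h)
  calc Nat.card R ^ 2 * c m ^ 3 = Nat.card R ^ 2 * c m * c m ^ 2 := by ring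
    _ ≤ _ := Nat.mul_le_mul hbase (Nat.pow_le_pow_left hBc 2)

end Hyp

end Cfsg.Agent.SolvableSignalizer.Amalgam
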