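import Cfsg.Agent.Lib.SolvableSignalizer.Amalgam.Bounds

/-!
The quadratic bound without any hypothesis on the kernel, by induction along invariant sections.
-/

set_option autoImplicit false
set_option linter.style.haveILetI false
set_option linter.unusedSectionVars false

namespace Cfsg.Agent.SolvableSignalizer.Amalgam

open Subgroup
open Cfsg.Agent.Components
open scoped commutatorElement Pointwise

universe u

/-- A minimal invariant subgroup carries a reduced action. -/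
lemma reduced_of_minimal {G : Type u} [Group G] [Finite G] {p : ℕ} [hp : Fact p.Prime]
    {K A W : Subgroup G} (hW : Cfsg.IsElementaryAbelian p W) (hW1 : W ≠ ⊥)
    (hKW : K ≤ normalizer (W : Set G)) (hAW : A ≤ normalizer (W : Set G))
    (hAK : A ≤ normalizer (K : Set G))
    (hmin : ∀ U : Subgroup G, U ≤ W → U ≠ ⊥ → K ≤ normalizer (U : Set G) →
      A ≤ normalizer (U : Set G) → U = W) :
    Reduced p K W := by
  haveI : Finite (MulAut W) :=
    Finite.of_injective (fun e : MulAut W => (e : W → W)) DFunLike.coe_injective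
  set N := normalizer (W : Set G)
  set χ := normalizerMonoidHom W with hχ
  set RK := (K.subgroupOf N).map χ
  set P := Cfsg.pCoreOf p RK
  have hnorm : ∀ k : N, (k : G) ∈ normalizer (K : Set G) → χ k ∈ normalizer (P : Set (MulAut W)) := by
    intro k hk
    refine normalizer_le_pCoreOf p RK (normalizer_map_le χ (X := (normalizer (K : Set G)).subgroupOf N)
      (fun y hy => mem_normalizer_iff.mpr fun z => ?_) ⟨k, hk, rfl⟩)
    simpa [mem_subgroupOf] using mem_normalizer_iff.mp (mem_subgroupOf.mp hy) (z : G)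
  -- the fixed points of the core
  let U₀ : Subgroup W :=
    { carrier := {w | ∀ π ∈ P, π w = w}
      one_mem' := fun π _ => map_one π
      mul_mem' := fun {a b} ha hb π hπ => by rw [map_mul, ha π hπ, hb π hπ]
      inv_mem' := fun {a} ha π hπ => by rw [map_inv, ha π hπ] }
  set U := U₀.map W.subtype
  have hU1 : U ≠ ⊥ := by
    letI : MulAction P W :=
      { smul := fun t v => (t : MulAut W) v
        one_smul := fun v => rfl
        mul_smul := fun s t v => rfl }
    haveI : Nontrivial W := (nontrivial_iff_ne_bot W).mpr hW1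
    have hdvd : p ∣ Nat.card W := by
      obtain ⟨n, hn⟩ := IsPGroup.iff_card.mp (Hyperplane.isPGroup hW)
      rcases n with _ | n
      · exfalso
        have := Finite.one_lt_card (α := W)
        rw [hn, pow_zero] at this
        omega
      · rw [hn]; exact dvd_pow_self p n.succ_ne_zero
    obtain ⟨v, hv, hv1⟩ := (pCoreOf_isPGroup p RK).exists_fixed_point_of_prime_dvd_card_of_fixed_point W
      hdvd (show (1 : W) ∈ MulAction.fixedPoints P W from fun t => map_one (t : MulAut W))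
    intro hbot
    rw [Subgroup.map_eq_bot_iff_of_injective _ W.subtype_injective] at hbot
    exact hv1 (mem_bot.mp (hbot ▸ fun π hπ => hv ⟨π, hπ⟩ : v ∈ (⊥ : Subgroup W))).symm
  have hinv : ∀ k : N, (k : G) ∈ normalizer (K : Set G) → (k : G) ∈ normalizer (U : Set G) := by
    intro k hk
    refine Coprime.conj_smul_eq_self_iff.mp (eq_of_le_of_card_ge ?_ (by rw [Coprime.card_conj_smul]))
    rintro _ ⟨_, ⟨w, hw, rfl⟩, rfl⟩
    refine ⟨χ k w, fun π hπ => ?_, rfl⟩
    have h := Linear.conj_mem_of_normalizer' (hnorm k hk) hπ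
    have h2 : ((χ k)⁻¹ * π * χ k) w = w := hw _ h
    calc π (χ k w) = χ k (((χ k)⁻¹ * π * χ k) w) := by simp [MulAut.mul_apply]
      _ = χ k w := by rw [h2]
  have hUW : U = W := hmin U (map_subtype_le _) hU1 (fun k hk => hinv ⟨k, hKW hk⟩ (le_normalizer hk))
    (fun a ha => hinv ⟨a, hAW ha⟩ (hAK ha))
  have hPbot : P = ⊥ := by
    refine (eq_bot_iff_forall _).mpr fun π hπ => MulEquiv.ext fun w => ?_
    obtain ⟨w', hw', e⟩ := hUW.ge w.2
    rw [← Subtype.ext (a1 := w') (a2 := w) e]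
    exact hw' π hπ
  intro M hMK hKM hpow
  have hMN : M ≤ N := hMK.trans hKW
  have hle : (M.subgroupOf N).map χ ≤ P := by
    refine le_pCoreOf (map_mono fun _ h => hMK h) (normalizer_map_le χ fun k hk => ?_) ?_
    · exact mem_normalizer_iff.mpr fun z => by
        simpa [mem_subgroupOf] using mem_normalizer_iff.mp (hKM (mem_subgroupOf.mp hk)) (z : G)
    · rintro ⟨_, y, hy, rfl⟩
      obtain ⟨j, hj⟩ := hpow y hy
      refine ⟨j, Subtype.ext ?_⟩
      show χ y ^ p ^ j = 1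
      rw [← map_pow, ← MonoidHom.mem_ker, hχ, normalizerMonoidHom_ker]
      exact mem_subgroupOf.mpr hj
  intro m hm
  have h := hle ⟨⟨m, hMN hm⟩, hm, rfl⟩
  rw [hPbot, mem_bot, ← MonoidHom.mem_ker, hχ, normalizerMonoidHom_ker] at h
  exact mem_subgroupOf.mp h

/-- The induction along sections. -/
theorem sect_quad_aux (n : ℕ) : ∀ {G : Type u} [Group G] [Finite G] {r p : ℕ} [Fact p.Prime]
    {K T A V R : Subgroup G}, Nat.card V = n → Local r p K T A → Cfsg.IsElementaryAbelian p V →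
      K ≤ normalizer (V : Set G) → A ≤ normalizer (V : Set G) → Cfsg.IsElementaryAbelian p R →
      R ≤ T → Linear.SqOn V R →
      ∃ N ≤ K, K ≤ normalizer (N : Set G) ∧
        (∀ n ∈ N, ∃ k : ℕ, n ^ p ^ k ∈ centralizer (V : Set G)) ∧
        Nat.card R ^ 2 * Nat.card ↥(V ⊓ centralizer (R : Set G)) ≤
          Nat.card V * Nat.card ↥(R ⊓ N) ^ 2 ∧
        (¬ R ≤ N → Nat.card R ^ 2 * Nat.card ↥(V ⊓ centralizer (R : Set G)) <
          Nat.card V * Nat.card ↥(R ⊓ N) ^ 2) := by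
  induction n using Nat.strong_induction_on with
  | _ n ih =>
  intro G _ _ r p hp K T A V R hn l hV hKV hAV hR hRT hsq
  have hRK : R ≤ K := hRT.trans l.TK
  by_cases hV1 : V = ⊥
  · subst hV1
    refine ⟨K, le_rfl, le_normalizer, fun k _ => ⟨0, by simp [mem_centralizer_iff]⟩, ?_,
      fun h => absurd hRK h⟩
    rw [inf_eq_left.mpr hRK, bot_inf_eq, card_bot, mul_one, one_mul]
  obtain ⟨W, -, hW⟩ := Finite.exists_le_minimal (a := V)
    (p := fun U : Subgroup G => U ≤ V ∧ U ≠ ⊥ ∧ K ≤ normalizer (U : Set G) ∧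
      A ≤ normalizer (U : Set G)) ⟨le_rfl, hV1, hKV, hAV⟩
  obtain ⟨hWV, hW1, hKW, hAW⟩ := hW.prop
  have hWe := Linear.elem_le hV hWV
  have hred := reduced_of_minimal hWe hW1 hKW hAW l.AK fun U h1 h2 h3 h4 =>
    le_antisymm h1 (hW.le_of_le ⟨h1.trans hWV, h2, h3, h4⟩ h1)
  obtain ⟨hb, hbs⟩ := l.quad hWe hKW hAW hred hR hRT (hsq.mono hWV le_rfl)
  set R₁ := R ⊓ centralizer (W : Set G) with hR₁
  -- the quotient by `W`
  set M := normalizer (W : Set G)
  have hVM : V ≤ M := Linear.abelian_le_normalizer hV hWV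
  have hRM : R ≤ M := hRK.trans hKW
  haveI hWn : (W.subgroupOf M).Normal := normal_in_normalizer
  set π := QuotientGroup.mk' (W.subgroupOf M)
  have lq := (l.restrict hKW hAW).map π
  set V' := (V.subgroupOf M).map π
  set R' := (R₁.subgroupOf M).map π
  have hVcard : Nat.card V = Nat.card W * Nat.card V' := by
    have h := PLocal.Cores.card_eq_card_inf_ker_mul_card_map (V.subgroupOf M) π
    rw [Nat.card_congr (subgroupOfEquivOfLe hVM).toEquiv] at h
    rw [h, QuotientGroup.ker_mk', inf_eq_right.mpr (fun x hx => hWV hx : W.subgroupOf M ≤ _),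
      Nat.card_congr (subgroupOfEquivOfLe (hWV.trans hVM)).toEquiv]
  have hlt : Nat.card V' < n := by
    rw [← hn, hVcard]
    exact lt_mul_of_one_lt_left Nat.card_pos ((Subgroup.one_lt_card_iff_ne_bot W).mpr hW1)
  have hV'e : Cfsg.IsElementaryAbelian p V' := PLocal.ThompsonSubgroup.IsElementaryAbelian.map
    (PLocal.ThompsonSubgroup.IsElementaryAbelian.comap hV M.subtype_injective) π
  have hR'e : Cfsg.IsElementaryAbelian p R' := PLocal.ThompsonSubgroup.IsElementaryAbelian.map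
    (PLocal.ThompsonSubgroup.IsElementaryAbelian.comap (Linear.elem_le hR inf_le_left)
      M.subtype_injective) π
  have hnq : ∀ X : Subgroup G, X ≤ normalizer (V : Set G) →
      (X.subgroupOf M).map π ≤ normalizer (V' : Set _) := fun X hX => normalizer_map_le π
    fun y hy => mem_normalizer_iff.mpr fun z => by
      simpa [mem_subgroupOf] using mem_normalizer_iff.mp (hX hy) (z : G)
  have hsq' : Linear.SqOn V' R' := by
    rintro _ ⟨x, hx, rfl⟩ _ ⟨y, hy, rfl⟩ _ ⟨v, hv, rfl⟩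
    rw [← map_commutatorElement]
    have h : Commute x ⁅y, v⁆ := Subtype.ext (hsq (x : G) hx.1 (y : G) hy.1 (v : G) hv).eq
    exact h.map π
  obtain ⟨N', hN'K, hKN', hN'pow, hb', hbs'⟩ := ih _ hlt rfl lq hV'e (hnq K hKV) (hnq A hAV) hR'e
    (map_mono fun _ h => hRT h.1) hsq'
  set P := (N'.comap π).map M.subtype
  have hmemP : ∀ y : M, π y ∈ N' → (y : G) ∈ P := fun y hy => ⟨y, hy, rfl⟩
  refine ⟨K ⊓ centralizer (W : Set G) ⊓ P, inf_le_left.trans inf_le_left, ?_, ?_, ?_⟩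
  · intro k hk
    refine Linear.Three.mem_normalizer_of_map_le fun y hy => ⟨⟨K.mul_mem (K.mul_mem hk hy.1.1)
      (K.inv_mem hk), Linear.conj_mem_of_normalizer (Linear.normalizer_le_centralizer' _ (hKW hk))
        hy.1.2⟩, ?_⟩
    obtain ⟨z, hz, hze⟩ := hy.2
    subst hze
    refine hmemP (⟨k, hKW hk⟩ * z * ⟨k, hKW hk⟩⁻¹) ?_
    rw [map_mul, map_mul, map_inv]
    exact Linear.conj_mem_of_normalizer (hKN' ⟨_, mem_subgroupOf.mpr hk, rfl⟩) hz
  · rintro y ⟨⟨hyK, hyW⟩, z, hz, rfl⟩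
    obtain ⟨j, hj⟩ := hN'pow _ hz
    refine ⟨j + 1, mem_centralizer_iff.mpr fun v hv => ?_⟩
    set a : G := (z : G) ^ p ^ j with ha
    have haW : a ∈ centralizer (W : Set G) := pow_mem hyW _
    have haq : ⁅a, v⁆ ∈ W := by
      have h1 := mem_centralizer_iff.mp hj _ ⟨⟨v, hVM hv⟩, hv, rfl⟩
      rw [← map_pow] at h1
      have h2 : π ⁅z ^ p ^ j, (⟨v, hVM hv⟩ : M)⁆ = 1 := by
        rw [map_commutatorElement]
        exact commutatorElement_eq_one_iff_mul_comm.mpr h1.symm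
      exact mem_subgroupOf.mp ((QuotientGroup.eq_one_iff _).mp h2)
    have key : ∀ i : ℕ, a ^ i * v * (a ^ i)⁻¹ = ⁅a, v⁆ ^ i * v := by
      intro i
      induction i with
      | zero => simp
      | succ i ihi =>
        have hc : Commute a ⁅a, v⁆ := (mem_centralizer_iff.mp haW _ haq).symm
        calc a ^ (i + 1) * v * (a ^ (i + 1))⁻¹ = a * (a ^ i * v * (a ^ i)⁻¹) * a⁻¹ := by
              rw [pow_succ']; group
          _ = (a * ⁅a, v⁆ ^ i * a⁻¹) * (a * v * a⁻¹) := by rw [ihi]; group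
          _ = _ := by rw [Linear.conj_eq_self (hc.pow_right i), Linear.conj_eq_comm_mul a v,
              pow_succ, mul_assoc]
    have h := key p
    rw [hWe.2 _ haq, one_mul] at h
    have hc := (Linear.mem_centralizer_conj.mp h).eq.symm
    show v * (z : G) ^ p ^ (j + 1) = (z : G) ^ p ^ (j + 1) * v
    rw [pow_succ, pow_mul]
    exact hc
  -- counting
  have hRN : R ⊓ (K ⊓ centralizer (W : Set G) ⊓ P) = R₁ ⊓ P := by
    apply le_antisymm
    · exact fun x hx => ⟨⟨hx.1, hx.2.1.2⟩, hx.2.2⟩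
    · exact fun x hx => ⟨hx.1.1, ⟨hRK hx.1.1, hx.1.2⟩, hx.2⟩
  rw [hRN]
  have hR₁M : R₁ ≤ M := inf_le_left.trans hRM
  set c := Nat.card ↥(R₁.subgroupOf M ⊓ π.ker) with hc
  have hR₁card : Nat.card R₁ = c * Nat.card R' := by
    rw [← Nat.card_congr (subgroupOfEquivOfLe hR₁M).toEquiv]
    exact PLocal.Cores.card_eq_card_inf_ker_mul_card_map _ π
  have hR₁P : Nat.card ↥(R₁ ⊓ P) = c * Nat.card ↥(R' ⊓ N') := by
    have h := PLocal.Cores.card_eq_card_inf_ker_mul_card_map (R₁.subgroupOf M ⊓ N'.comap π) π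
    have e1 : R₁.subgroupOf M ⊓ N'.comap π ⊓ π.ker = R₁.subgroupOf M ⊓ π.ker :=
      le_antisymm (inf_le_inf_right _ inf_le_left)
        (le_inf (le_inf inf_le_left (inf_le_right.trans (MonoidHom.ker_le_comap π N'))) inf_le_right)
    have e2 : (R₁.subgroupOf M ⊓ N'.comap π).map π = R' ⊓ N' := by
      refine le_antisymm ?_ ?_
      · rintro _ ⟨y, hy, rfl⟩; exact ⟨⟨y, hy.1, rfl⟩, hy.2⟩
      · rintro _ ⟨⟨y, hy, rfl⟩, hy'⟩; exact ⟨y, ⟨hy, hy'⟩, rfl⟩
    rw [e1, e2] at h
    rw [← h, ← card_map_of_injective (K := R₁.subgroupOf M ⊓ N'.comap π) M.subtype_injective]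
    refine congrArg (fun S : Subgroup G => Nat.card S) (le_antisymm ?_ ?_)
    · rintro x ⟨hx, y, hy, rfl⟩; exact ⟨y, ⟨hx, hy⟩, rfl⟩
    · rintro _ ⟨y, hy, rfl⟩; exact ⟨hy.1, y, hy.2, rfl⟩
  have hCcard : Nat.card ↥(V ⊓ centralizer (R : Set G)) ≤
      Nat.card ↥(W ⊓ centralizer (R : Set G)) * Nat.card ↥(V' ⊓ centralizer (R' : Set _)) := by
    set C := (V ⊓ centralizer (R : Set G)).subgroupOf M
    have h := PLocal.Cores.card_eq_card_inf_ker_mul_card_map C π
    rw [Nat.card_congr (subgroupOfEquivOfLe (inf_le_left.trans hVM)).toEquiv] at h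
    rw [h]
    refine Nat.mul_le_mul ?_ (card_le_of_le ?_)
    · rw [← card_map_of_injective (K := C ⊓ π.ker) M.subtype_injective]
      refine card_le_of_le ?_
      rintro _ ⟨y, hy, rfl⟩
      exact ⟨mem_subgroupOf.mp ((QuotientGroup.ker_mk' (W.subgroupOf M)).le hy.2), hy.1.2⟩
    · rintro _ ⟨y, hy, rfl⟩
      refine ⟨⟨y, hy.1, rfl⟩, mem_centralizer_iff.mpr ?_⟩
      rintro _ ⟨x, hx, rfl⟩
      rw [← map_mul, ← map_mul]
      exact congrArg π (Subtype.ext (mem_centralizer_iff.mp hy.2 (x : G) hx.1))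
  set a := Nat.card R
  set cw := Nat.card ↥(W ⊓ centralizer (R : Set G))
  set cv := Nat.card ↥(V' ⊓ centralizer (R' : Set _))
  have hstep : a ^ 2 * Nat.card ↥(V ⊓ centralizer (R : Set G)) ≤ a ^ 2 * cw * cv :=
    (Nat.mul_le_mul_left _ hCcard).trans_eq (mul_assoc _ _ _).symm
  have hmid : Nat.card W * Nat.card R₁ ^ 2 * cv = Nat.card W * c ^ 2 * (Nat.card R' ^ 2 * cv) := by
    rw [hR₁card]; ring
  have hfin : Nat.card W * c ^ 2 * (Nat.card V' * Nat.card ↥(R' ⊓ N') ^ 2) =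
      Nat.card V * Nat.card ↥(R₁ ⊓ P) ^ 2 := by rw [hVcard, hR₁P]; ring
  have hcv : 0 < cv := Nat.card_pos
  have hcp : 0 < Nat.card W * c ^ 2 := Nat.mul_pos Nat.card_pos (pow_pos Nat.card_pos 2)
  refine ⟨hstep.trans ((Nat.mul_le_mul_right cv hb).trans
    (hmid.le.trans ((Nat.mul_le_mul_left _ hb').trans hfin.le))), fun hnot => ?_⟩
  by_cases hRW : R ≤ centralizer (W : Set G)
  · have hR' : ¬ R' ≤ N' := by
      intro hle
      refine hnot fun x hx => ⟨⟨hRK hx, hRW hx⟩, hmemP ⟨x, hRM hx⟩ (hle ⟨⟨x, hRM hx⟩, ⟨hx, hRW hx⟩, rfl⟩)⟩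
    exact hstep.trans_lt (((Nat.mul_le_mul_right cv hb).trans hmid.le).trans_lt
      ((Nat.mul_lt_mul_of_pos_left (hbs' hR') hcp).trans_eq hfin))
  · exact hstep.trans_lt ((Nat.mul_lt_mul_of_pos_right (hbs hRW) hcv).trans_le
      (hmid.le.trans ((Nat.mul_le_mul_left _ hb').trans hfin.le)))

/-- The quadratic bound in general. -/
theorem Local.sect_quad {G : Type u} [Group G] [Finite G] {r p : ℕ} [Fact p.Prime]
    {K T A V R : Subgroup G} (l : Local r p K T A) (hV : Cfsg.IsElementaryAbelian p V)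
    (hKV : K ≤ normalizer (V : Set G)) (hAV : A ≤ normalizer (V : Set G))
    (hR : Cfsg.IsElementaryAbelian p R) (hRT : R ≤ T) (hsq : Linear.SqOn V R) :
    ∃ N ≤ K, K ≤ normalizer (N : Set G) ∧
      (∀ n ∈ N, ∃ k : ℕ, n ^ p ^ k ∈ centralizer (V : Set G)) ∧
      Nat.card R ^ 2 * Nat.card ↥(V ⊓ centralizer (R : Set G)) ≤
        Nat.card V * Nat.card ↥(R ⊓ N) ^ 2 ∧
      (¬ R ≤ N → Nat.card R ^ 2 * Nat.card ↥(V ⊓ centralizer (R : Set G)) <
        Nat.card V * Nat.card ↥(R ⊓ N) ^ 2) :=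
  sect_quad_aux _ rfl l hV hKV hAV hR hRT hsq

end Cfsg.Agent.SolvableSignalizer.Amalgam
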