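import Cfsg.Agent.Lib.SolvableSignalizer.Amalgam.Graph

/-!
A subgroup of `O_p(K₁)` acting quadratically on the translates around `K₀` moves more than its size.
-/

set_option autoImplicit false
set_option linter.style.haveILetI false
set_option linter.unusedSectionVars false

namespace Cfsg.Agent.SolvableSignalizer.Amalgam

open Subgroup
open Cfsg.Agent.Components
open scoped commutatorElement Pointwise

universe u

variable {G : Type u} [Group G] [Finite G] {r p : ℕ} [hp : Fact p.Prime]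
  {𝒢 : Set (Subgroup G)} {T Z : Subgroup G} {A : Subgroup G → Subgroup G}

namespace Hyp

variable (H : Hyp r p 𝒢 T Z A)
include H

/-- The kernel of the action on the translates meets `O_p(K₁)` inside `O_p(K₀)`. -/
lemma kernel_le {K₀ K₁ : Subgroup G} (h₀ : K₀ ∈ 𝒢) (h₁ : K₁ ∈ 𝒢) {N : Subgroup G} (hNK : N ≤ K₀)
    (hKN : K₀ ≤ normalizer (N : Set G))
    (hpow : ∀ n ∈ N, ∃ k : ℕ, n ^ p ^ k ∈ centralizer (ugrp 𝒢 Z K₀ : Set G)) :
    Cfsg.pCoreOf p K₁ ⊓ N ≤ Cfsg.pCoreOf p K₀ := by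
  set P₀ := Cfsg.pCoreOf p K₀
  set P₁ := Cfsg.pCoreOf p K₁
  set C := K₀ ⊓ centralizer (ugrp 𝒢 Z K₀ : Set G) with hC
  have hCK₁ : C ≤ K₁ := H.capt K₁ h₁ K₀ h₀
  have hCn : K₀ ≤ normalizer (C : Set G) :=
    le_trans (le_inf le_normalizer
      (le_normalizer_ugrp.trans (Linear.normalizer_le_centralizer' _))) inf_normalizer_le_normalizer_inf
  have hCP : C ⊓ P₁ ≤ P₀ := by
    have h1 : C ⊓ P₁ ≤ Cfsg.pCoreOf p C := by
      refine le_pCoreOf inf_le_left ?_ ((pCoreOf_isPGroup p K₁).to_le inf_le_right)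
      exact le_trans (le_inf le_normalizer (hCK₁.trans (le_normalizer_pCoreOf p K₁)))
        inf_normalizer_le_normalizer_inf
    exact h1.trans (le_pCoreOf ((pCoreOf_le p C).trans inf_le_left)
      (hCn.trans (normalizer_le_pCoreOf p C)) (pCoreOf_isPGroup p C))
  -- inside `K₀ / O_p(K₀)`
  set π := QuotientGroup.mk' (Cfsg.pCore p K₀)
  set Nb := (N.subgroupOf K₀).map π
  set Qb := ((P₁ ⊓ N).subgroupOf K₀).map π
  haveI : (N.subgroupOf K₀).Normal := normal_subgroupOf_of_le_normalizer hKN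
  haveI hNbn : Nb.Normal := Subgroup.Normal.map inferInstance _ (QuotientGroup.mk'_surjective _)
  haveI : Group.IsSolvable K₀ := (H.loc K₀ h₀).solv
  haveI : Group.IsSolvable (K₀ ⧸ Cfsg.pCore p K₀) :=
    Group.isSolvable_of_surjective (QuotientGroup.mk'_surjective (Cfsg.pCore p K₀))
  have hNbs : Group.IsSolvable Nb := inferInstance
  have hcore : Cfsg.pCoreOf p Nb = ⊥ :=
    le_bot_iff.mp ((Cores.map_pCore_subtype_le p Nb).trans (Cores.pCore_quotient_self p).le)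
  have hQN : Qb ≤ Nb := map_mono fun _ hx => hx.2
  have hQp : IsPGroup p Qb :=
    (((pCoreOf_isPGroup p K₁).to_le (inf_le_left : P₁ ⊓ N ≤ P₁)).comap_subtype).map π
  have hcent : Qb ≤ centralizer (fitOf Nb : Set _) := by
    refine le_centralizer_iff.mp fun y hy => ?_
    obtain ⟨n, hn, rfl⟩ := fitOf_le Nb hy
    -- `y` has order prime to `p`
    have hcop : (orderOf (π n)).Coprime p := by
      refine (hp.out.coprime_iff_not_dvd.mpr fun hd => ?_).symm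
      set z := π n ^ (orderOf (π n) / p)
      have hz : orderOf z = p := orderOf_pow_orderOf_div (orderOf_pos _).ne' hd
      have h := pgroup_fitOf_le (zpowers_le.mpr (pow_mem hy _) : zpowers z ≤ fitOf Nb)
        (IsPGroup.of_card (p := p) (n := 1) (by rw [Nat.card_zpowers, hz, pow_one]))
      rw [hcore, le_bot_iff, zpowers_eq_bot] at h
      rw [h, orderOf_one] at hz
      exact hp.out.ne_one hz.symm
    obtain ⟨k, hk⟩ := hpow n hn
    obtain ⟨m, hm⟩ := exists_pow_eq_self_of_coprime (hcop.pow_right k).symm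
    rw [← hm, mem_centralizer_iff]
    rintro _ ⟨q, hq, rfl⟩
    rw [← map_pow, ← map_pow, ← map_mul, ← map_mul]
    refine (QuotientGroup.eq.mpr ?_)
    set c : K₀ := (n ^ p ^ k) ^ m
    have hcC : (c : G) ∈ C := ⟨c.2, by
      simp only [c, SubgroupClass.coe_pow]
      exact pow_mem hk m⟩
    have h1 : (q : G)⁻¹ * (c : G)⁻¹ * (q : G) * (c : G) ∈ P₀ := by
      refine hCP ⟨?_, ?_⟩
      · exact C.mul_mem (Linear.conj_mem_of_normalizer' (hCn q.2) (C.inv_mem hcC)) hcC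
      · have hq1 : (q : G) ∈ P₁ := hq.1
        rw [mul_assoc, mul_assoc, ← mul_assoc (c : G)⁻¹]
        exact P₁.mul_mem (P₁.inv_mem hq1)
          (Linear.conj_mem_of_normalizer' (le_normalizer_pCoreOf p K₁ (hCK₁ hcC)) hq1)
    obtain ⟨w, hw, hwe⟩ := h1
    have he : (q * c)⁻¹ * (c * q) = c⁻¹ * (q⁻¹ * c * q) := by group
    have he2 : c⁻¹ * (q⁻¹ * c * q) = (q⁻¹ * c⁻¹ * q * c)⁻¹ * (1 : K₀) := by group
    rw [he, he2, mul_one, inv_mem_iff]
    have hwq : w = q⁻¹ * c⁻¹ * q * c := Subtype.ext hwe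
    exact hwq ▸ hw
  have hQb : Qb = ⊥ := le_bot_iff.mp (hcore ▸
    pgroup_fitOf_le ((le_inf hQN hcent).trans (inf_centralizer_fitOf_le hNbs)) hQp)
  rintro x ⟨hx1, hx2⟩
  have h := mem_bot.mp (hQb.le ⟨⟨x, hNK hx2⟩, ⟨hx1, hx2⟩, rfl⟩)
  exact ⟨⟨x, hNK hx2⟩, (QuotientGroup.eq_one_iff _).mp h, rfl⟩

/-- The bound. -/
theorem side {K₀ K₁ : Subgroup G} (h₀ : K₀ ∈ 𝒢) (h₁ : K₁ ∈ 𝒢)
    (hU : Cfsg.IsElementaryAbelian p (ugrp 𝒢 Z K₀))
    {R : Subgroup G} (hR : Cfsg.IsElementaryAbelian p R) (hR₁ : R ≤ Cfsg.pCoreOf p K₁)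
    (hsq : Linear.SqOn (ugrp 𝒢 Z K₀) R) :
    Nat.card R * Nat.card ↥(ugrp 𝒢 Z K₀ ⊓ centralizer (R : Set G)) ≤
        Nat.card (ugrp 𝒢 Z K₀) * Nat.card ↥(R ⊓ centralizer (ugrp 𝒢 Z K₀ : Set G)) ∧
      (¬ R ≤ Cfsg.pCoreOf p K₀ →
        Nat.card R * Nat.card ↥(ugrp 𝒢 Z K₀ ⊓ centralizer (R : Set G)) <
          Nat.card (ugrp 𝒢 Z K₀) * Nat.card ↥(R ⊓ centralizer (ugrp 𝒢 Z K₀ : Set G))) := by
  classical
  set U := ugrp 𝒢 Z K₀ with hUdef
  set P₀ := Cfsg.pCoreOf p K₀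
  have hRT : R ≤ T := hR₁.trans (H.coreT K₁ h₁)
  obtain ⟨N, hNK, hKN, hNpow, hb, hbs⟩ := (H.loc K₀ h₀).sect_quad hU le_normalizer_ugrp
    (H.A_normalizer_ugrp h₀) hR hRT hsq
  have hRN : R ⊓ N ≤ R ⊓ P₀ := le_inf inf_le_left
    ((inf_le_inf_right _ hR₁).trans (H.kernel_le h₀ h₁ hNK hKN hNpow))
  -- the part inside `O_p(K₀)` acts on each translate
  set Q := R ⊓ P₀
  letI : Fintype (K₀ × 𝒢) := Fintype.ofFinite _
  set V : K₀ × 𝒢 → Subgroup G := fun i => MulAut.conj (i.1 : G) • vgrp Z (i.2 : Subgroup G) with hV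
  have hUV : U = ⨆ i ∈ (Finset.univ : Finset (K₀ × 𝒢)), V i := by
    simp [hUdef, ugrp, hV, iSup_prod]
  have hVU : ∀ i, V i ≤ U := fun i => hUV ▸ le_iSup₂_of_le i (Finset.mem_univ i) le_rfl
  have hnorm : ∀ i : K₀ × 𝒢, MulAut.conj (i.1 : G) • (i.2 : Subgroup G) ≤ normalizer (V i : Set G) :=
    fun i => by
      rw [← Coprime.conj_smul_normalizer]
      exact pointwise_smul_le_pointwise_smul_iff.mpr le_normalizer_vgrp
  have hQT : ∀ i : K₀ × 𝒢, Q ≤ MulAut.conj (i.1 : G) • T := fun i =>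
    inf_le_right.trans (H.core_le_conj h₀ i.1.2)
  have hQV : ∀ i, Q ≤ normalizer (V i : Set G) := fun i =>
    (hQT i).trans ((pointwise_smul_le_pointwise_smul_iff.mpr (H.loc _ i.2.2).TK).trans (hnorm i))
  have hAV : ∀ i : K₀ × 𝒢, MulAut.conj (i.1 : G) • A (i.2 : Subgroup G) ≤ normalizer (V i : Set G) := fun i => by
    rw [← Coprime.conj_smul_normalizer]
    exact pointwise_smul_le_pointwise_smul_iff.mpr (H.A_normalizer_vgrp i.2.2)
  have hch := chain_bound hU V hVU hQV 2 1 (fun i Q' hQ' => by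
    simp only [pow_one]
    exact (((H.loc _ i.2.2).conj (i.1 : G)).quad
      (PLocal.ThompsonSubgroup.IsElementaryAbelian.map (H.vgrp_elem i.2.2) _) (hnorm i)
      (hAV i) ((H.red _ i.2.2).conj _) (Linear.elem_le hR (hQ'.trans inf_le_left)) (hQ'.trans (hQT i))
      (hsq.mono (hVU i) (hQ'.trans inf_le_left))).1) Finset.univ
  rw [← hUV] at hch
  have hch' := hch.1
  simp only [pow_one] at hch'
  set nR := Nat.card R
  set cR := Nat.card ↥(U ⊓ centralizer (R : Set G))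
  set nU := Nat.card U
  set nN := Nat.card ↥(R ⊓ N)
  set nQ := Nat.card Q
  set cQ := Nat.card ↥(U ⊓ centralizer (Q : Set G))
  set kQ := Nat.card ↥(Q ⊓ centralizer (U : Set G))
  set kR := Nat.card ↥(R ⊓ centralizer (U : Set G))
  have hNQ : nN ≤ nQ := card_le_of_le hRN
  have hcQ : cR ≤ cQ := card_le_of_le (inf_le_inf_left _ (centralizer_le (SetLike.coe_subset_coe.mpr inf_le_left)))
  have hkQ : kQ ≤ kR := card_le_of_le (inf_le_inf_right _ inf_le_left)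
  have h2 : nQ ^ 2 * cR ≤ nU * kR ^ 2 :=
    (Nat.mul_le_mul_left _ hcQ).trans (hch'.trans (Nat.mul_le_mul_left _ (Nat.pow_le_pow_left hkQ 2)))
  have hQpos : 0 < nQ ^ 2 := pow_pos Nat.card_pos 2
  have h1 : nR ^ 2 * cR ≤ nU * nQ ^ 2 :=
    hb.trans (Nat.mul_le_mul_left _ (Nat.pow_le_pow_left hNQ 2))
  refine ⟨?_, fun hnot => ?_⟩
  · refine (Nat.pow_le_pow_iff_left (two_ne_zero)).mp (Nat.le_of_mul_le_mul_right ?_ hQpos)
    calc (nR * cR) ^ 2 * nQ ^ 2 = (nR ^ 2 * cR) * (nQ ^ 2 * cR) := by ring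
      _ ≤ (nU * nQ ^ 2) * (nU * kR ^ 2) := Nat.mul_le_mul h1 h2
      _ = (nU * kR) ^ 2 * nQ ^ 2 := by ring
  · have h1' : nR ^ 2 * cR < nU * nQ ^ 2 :=
      (hbs fun h => hnot fun x hx => (hRN ⟨hx, h hx⟩).2).trans_le
        (Nat.mul_le_mul_left _ (Nat.pow_le_pow_left hNQ 2))
    refine (Nat.pow_lt_pow_iff_left (two_ne_zero)).mp (Nat.lt_of_mul_lt_mul_right (a := nQ ^ 2) ?_)
    calc (nR * cR) ^ 2 * nQ ^ 2 = (nR ^ 2 * cR) * (nQ ^ 2 * cR) := by ring
      _ < (nU * nQ ^ 2) * (nU * kR ^ 2) := Nat.mul_lt_mul_of_lt_of_le h1' h2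
          (Nat.mul_pos Nat.card_pos (pow_pos Nat.card_pos 2))
      _ = (nU * kR) ^ 2 * nQ ^ 2 := by ring

end Hyp

end Cfsg.Agent.SolvableSignalizer.Amalgam
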